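import Cfsg.Agent.Lib.Linear.OrthSimple
import Cfsg.Agent.Lib.Linear.OrthSum
import Cfsg.Agent.Lib.Linear.OrthBlocksOf

/-!
# The Siegel subgroup of a non-degenerate subspace

It is the group of the subspace: the fixer of the perpendicular in `Ω`, and perfect.
-/

set_option autoImplicit false

namespace Cfsg.Lib.OrthMult

open Module
open Cfsg.Lib.Linear.Orth
open scoped Matrix commutatorElement

variable {ι : Type} [Fintype ι] [DecidableEq ι] {F : Type*} [Field F]
  {Q : (ι → F) → F} {B : LinearMap.BilinForm F (ι → F)}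

/-- The perpendicular of a subspace. -/
def orth (B : LinearMap.BilinForm F (ι → F)) (A : Submodule F (ι → F)) : Submodule F (ι → F) :=
  perpIn B ⊤ A

theorem mem_orth {A : Submodule F (ι → F)} {x : ι → F} : x ∈ orth B A ↔ ∀ a ∈ A, B a x = 0 :=
  ⟨fun h => h.2, fun h => ⟨trivial, h⟩⟩

theorem mem_orth_span {s : Set (ι → F)} {x : ι → F} :
    x ∈ orth B (Submodule.span F s) ↔ ∀ a ∈ s, B a x = 0 := by
  refine mem_orth.trans ⟨fun h a ha => h a (Submodule.subset_span ha), fun h a ha => ?_⟩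
  exact (Submodule.span_le (p := LinearMap.ker (B.flip x))).2 (fun b hb => LinearMap.mem_ker.2 (h b hb)) ha

theorem finrank_orth (A : Submodule F (ι → F)) : Fintype.card ι ≤ finrank F (orth B A) + finrank F A := by
  have := finrank_perpIn (B := B) ⊤ A
  rwa [finrank_top, finrank_fintype_fun_eq_card] at this

theorem orth_anti {A A' : Submodule F (ι → F)} (h : A ≤ A') : orth B A' ≤ orth B A :=
  fun _ hx => mem_orth.2 fun a ha => mem_orth.1 hx a (h ha)

theorem split_orth (C : Space Q B) {A : Submodule F (ι → F)} (hA : NDeg B A) : Split Q B (orth B A) A := by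
  have hdisj : orth B A ⊓ A = ⊥ := eq_bot_iff.2 fun x hx => (Submodule.mem_bot F).2
    (hA x hx.2 fun y hy => by rw [C.symm]; exact mem_orth.1 hx.1 y hy)
  have hsup : orth B A ⊔ A = ⊤ := by
    refine Submodule.eq_top_of_finrank_eq (le_antisymm (Submodule.finrank_le _) ?_)
    have h1 := Submodule.finrank_sup_add_finrank_inf_eq (orth B A) A
    rw [hdisj, finrank_bot] at h1
    have h2 := finrank_orth (B := B) A
    rw [finrank_fintype_fun_eq_card]
    omega
  have ho : ∀ u ∈ orth B A, ∀ w ∈ A, B u w = 0 := fun u hu w hw => by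
    rw [C.symm]; exact mem_orth.1 hu w hw
  refine ⟨fun x hx hxy => C.nondeg' fun v => ?_, hA, ho, hsup⟩
  obtain ⟨u, hu, w, hw, rfl⟩ := Submodule.mem_sup.1 (hsup ▸ Submodule.mem_top : v ∈ orth B A ⊔ A)
  rw [map_add, hxy u hu, ho x hx w hw, add_zero]

theorem orth_finrank (C : Space Q B) {A : Submodule F (ι → F)} (hA : NDeg B A) :
    finrank F (orth B A) + finrank F A = Fintype.card ι :=
  (split_orth C hA).finrank_add C

theorem root_fix (C : Space Q B) {A : Submodule F (ι → F)} {g : GL ι F} (hg : g ∈ Root Q B (orth B A))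
    {a : ι → F} (ha : a ∈ A) : g.val *ᵥ a = a :=
  (root_act C hg a).2 fun y hy => by rw [C.symm]; exact mem_orth.1 hy a ha

theorem root_conj_map (C : Space Q B) {U U' : Submodule F (ι → F)} {g h : GL ι F}
    (hg : g ∈ isometryGroup F Q) (hU : ∀ u ∈ U, g.val *ᵥ u ∈ U') (hh : h ∈ Root Q B U) :
    g * h * g⁻¹ ∈ Root Q B U' := by
  have : (Root Q B U).map (MulAut.conj g).toMonoidHom ≤ Root Q B U' := by
    rw [Root, MonoidHom.map_closure, Subgroup.closure_le]
    rintro _ ⟨_, ⟨u, a, hu, ha, h1, h2, rfl⟩, rfl⟩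
    show g * sGL Q B u a * g⁻¹ ∈ Root Q B U'
    rw [sGL_conj C h1 h2 hg]
    exact sGL_mem_root (hU u hu) (hU a ha) (by rw [mem_iso.1 hg, h1]) (by rw [C.B_act hg, h2])
  exact this ⟨h, hh, rfl⟩

/-! ## Coordinates on a summand -/

variable {κ : Type} [Fintype κ] [DecidableEq κ] {Q' : (κ → F) → F}
  {B' : LinearMap.BilinForm F (κ → F)}

/-- Coordinates on the first summand of a splitting. -/
structure Coord (Q : (ι → F) → F) (B : LinearMap.BilinForm F (ι → F)) (Q' : (κ → F) → F)
    (B' : LinearMap.BilinForm F (κ → F)) (U W : Submodule F (ι → F)) (φ : (κ → F) →ₗ[F] (ι → F)) :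
    Prop where
  space : Space Q B
  space' : Space Q' B'
  split : Split Q B U W
  range_eq : LinearMap.range φ = U
  map_q : ∀ x, Q (φ x) = Q' x

variable {U W : Submodule F (ι → F)} {φ : (κ → F) →ₗ[F] (ι → F)} (K : Coord Q B Q' B' U W φ)

include K

theorem Coord.memU (x : κ → F) : φ x ∈ U := K.range_eq ▸ LinearMap.mem_range_self φ x

theorem Coord.exists_pre {u : ι → F} (hu : u ∈ U) : ∃ x, φ x = u := by
  rwa [← K.range_eq] at hu

theorem Coord.map_b (x y : κ → F) : B (φ x) (φ y) = B' x y := by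
  rw [← K.space.polar, ← K.space'.polar, QuadraticMap.polar, QuadraticMap.polar, ← map_add, K.map_q,
    K.map_q, K.map_q]

theorem Coord.inj : Function.Injective φ := (injective_iff_map_eq_zero φ).2 fun x hx =>
  K.space'.nondeg' fun u => by rw [← K.map_b, hx, map_zero, LinearMap.zero_apply]

/-- The decomposition of the space. -/
noncomputable def Coord.equiv : ((κ → F) × W) ≃ₗ[F] (ι → F) :=
  LinearEquiv.ofBijective (φ.coprod W.subtype) ⟨(injective_iff_map_eq_zero _).2 fun p hp => by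
      have h := K.split.eq_parts K.space (K.memU p.1) U.zero_mem p.2.2 W.zero_mem
        (by simpa using hp)
      exact Prod.ext (K.inj (by simpa using h.1)) (Subtype.ext (by simpa using h.2)),
    fun x => by
      obtain ⟨u, hu, w, hw, rfl⟩ := K.split.parts K.space x
      obtain ⟨z, rfl⟩ := K.exists_pre hu
      exact ⟨(z, ⟨w, hw⟩), by simp⟩⟩

theorem Coord.equiv_apply (p : (κ → F) × W) : K.equiv p = φ p.1 + (p.2 : ι → F) := rfl

theorem Coord.equiv_symm (x : κ → F) {w : ι → F} (hw : w ∈ W) :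
    K.equiv.symm (φ x + w) = (x, ⟨w, hw⟩) :=
  (LinearEquiv.symm_apply_eq _).2 rfl

/-- The linear map acting on the summand by a matrix. -/
noncomputable def Coord.lin (M : Matrix κ κ F) : (ι → F) →ₗ[F] (ι → F) :=
  K.equiv.toLinearMap.comp (((Matrix.mulVecLin M).prodMap LinearMap.id).comp K.equiv.symm.toLinearMap)

theorem Coord.lin_apply (M : Matrix κ κ F) (x : κ → F) {w : ι → F} (hw : w ∈ W) :
    K.lin M (φ x + w) = φ (M *ᵥ x) + w := by
  simp [Coord.lin, K.equiv_symm x hw, K.equiv_apply]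

theorem Coord.ext_split {f g : (ι → F) →ₗ[F] (ι → F)}
    (h : ∀ x, ∀ w ∈ W, f (φ x + w) = g (φ x + w)) : f = g := LinearMap.ext fun v => by
  obtain ⟨u, hu, w, hw, rfl⟩ := K.split.parts K.space v
  obtain ⟨z, rfl⟩ := K.exists_pre hu
  exact h z w hw

/-- Matrices of the summand as matrices of the space. -/
noncomputable def Coord.matHom : Matrix κ κ F →* Matrix ι ι F where
  toFun M := LinearMap.toMatrix' (K.lin M)
  map_one' := by
    rw [show K.lin 1 = LinearMap.id from K.ext_split fun x w hw => by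
      rw [K.lin_apply _ x hw, Matrix.one_mulVec, LinearMap.id_apply], LinearMap.toMatrix'_id]
  map_mul' M N := by
    rw [show K.lin (M * N) = (K.lin M).comp (K.lin N) from K.ext_split fun x w hw => by
      rw [LinearMap.comp_apply, K.lin_apply _ x hw, K.lin_apply _ x hw, K.lin_apply _ _ hw,
        Matrix.mulVec_mulVec], LinearMap.toMatrix'_comp]

/-- Elements of the group of the summand as elements of the group of the space. -/
noncomputable def Coord.emb : GL κ F →* GL ι F := Units.map K.matHom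

theorem Coord.emb_apply (g : GL κ F) (x : κ → F) {w : ι → F} (hw : w ∈ W) :
    (K.emb g).val *ᵥ (φ x + w) = φ (g.val *ᵥ x) + w := by
  show LinearMap.toMatrix' (K.lin g.val) *ᵥ _ = _
  rw [LinearMap.toMatrix'_mulVec, K.lin_apply _ x hw]

theorem Coord.gl_ext_split {f g : GL ι F} (h : ∀ x, ∀ w ∈ W, f.val *ᵥ (φ x + w) = g.val *ᵥ (φ x + w)) :
    f = g := Cfsg.Lib.Linear.Orth.gl_ext fun v => by
  obtain ⟨u, hu, w, hw, rfl⟩ := K.split.parts K.space v
  obtain ⟨z, rfl⟩ := K.exists_pre hu
  exact h z w hw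

theorem Coord.emb_injective : Function.Injective K.emb := fun g h e => Cfsg.Lib.Linear.Orth.gl_ext fun x => K.inj (by
  have h1 := K.emb_apply g x W.zero_mem
  rw [e, K.emb_apply h x W.zero_mem] at h1
  simpa using h1.symm)

theorem Coord.b_sum (x y : κ → F) {w : ι → F} (hw : w ∈ W) : B (φ x) (φ y + w) = B' x y := by
  rw [K.split.B_left K.space (K.memU x) hw, K.map_b]

theorem Coord.emb_sGL {u a : κ → F} (hu : Q' u = 0) (hua : B' u a = 0) :
    K.emb (sGL Q' B' u a) = sGL Q B (φ u) (φ a) := K.gl_ext_split fun x w hw => by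
  rw [K.emb_apply _ x hw, sGL_act K.space' hu hua,
    sGL_act K.space (by rw [K.map_q, hu]) (by rw [K.map_b, hua]), K.b_sum u x hw, K.b_sum a x hw, K.map_q]
  simp only [map_add, map_sub, map_smul]
  module

theorem Coord.emb_rGL {v : κ → F} (hv : Q' v ≠ 0) : K.emb (rGL Q' v) = rGL Q (φ v) :=
  K.gl_ext_split fun x w hw => by
    rw [K.emb_apply _ x hw, rGL_act K.space' hv, rGL_act K.space (by rwa [K.map_q]), K.map_q,
      K.b_sum v x hw]
    simp only [map_sub, map_smul]
    module

theorem Coord.emb_mem {g : GL κ F} (hg : g ∈ isometryGroup F Q') : K.emb g ∈ isometryGroup F Q :=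
  mem_iso.2 fun v => by
    obtain ⟨u, hu, w, hw, rfl⟩ := K.split.parts K.space v
    obtain ⟨z, rfl⟩ := K.exists_pre hu
    rw [K.emb_apply _ z hw, K.space.add, K.space.add, K.map_q, K.map_q, mem_iso.1 hg,
      K.split.orth _ (K.memU _) w hw, K.split.orth _ (K.memU _) w hw]

theorem Coord.map_root : (Root Q' B' ⊤).map K.emb = Root Q B U := by
  refine le_antisymm ?_ ?_
  · rw [Root, MonoidHom.map_closure, Subgroup.closure_le]
    rintro _ ⟨_, ⟨u, a, -, -, h1, h2, rfl⟩, rfl⟩
    rw [K.emb_sGL h1 h2]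
    exact sGL_mem_root (K.memU u) (K.memU a) (by rw [K.map_q, h1]) (by rw [K.map_b, h2])
  · refine (Subgroup.closure_le _).2 ?_
    rintro _ ⟨u, a, hu, ha, h1, h2, rfl⟩
    obtain ⟨x, rfl⟩ := K.exists_pre hu
    obtain ⟨y, rfl⟩ := K.exists_pre ha
    rw [K.map_q] at h1
    rw [K.map_b] at h2
    exact ⟨_, sGL_mem_root trivial trivial h1 h2, K.emb_sGL h1 h2⟩

/-- The Siegel subgroup of the summand as the group `Ω` of the coordinates. -/
noncomputable def Coord.rootEquiv : ↥(Root Q' B' ⊤) ≃* ↥(Root Q B U) :=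
  (Subgroup.equivMapOfInjective _ K.emb K.emb_injective).trans (MulEquiv.subgroupCongr K.map_root)

theorem Coord.exists_emb {g : GL ι F} (hg : g ∈ isometryGroup F Q) (hfix : ∀ w ∈ W, g.val *ᵥ w = w) :
    ∃ g' ∈ isometryGroup F Q', K.emb g' = g := by
  have hU : ∀ u ∈ U, g.val *ᵥ u ∈ U := fun u hu => (K.split.mem_U_iff K.space).2 fun w hw => by
    conv_lhs => rw [← hfix w hw]
    rw [K.space.B_act hg, K.space.symm]
    exact K.split.orth u hu w hw
  let T : (κ → F) →ₗ[F] (κ → F) :=
    (LinearMap.fst F (κ → F) W).comp (K.equiv.symm.toLinearMap.comp ((Matrix.mulVecLin g.val).comp φ))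
  have hT : ∀ x, φ (T x) = g.val *ᵥ φ x := fun x => by
    obtain ⟨z, hz⟩ := K.exists_pre (hU _ (K.memU x))
    have h := K.equiv_symm z W.zero_mem
    rw [add_zero, hz] at h
    simp [T, h, hz]
  have hinj : Function.Injective T := fun x y e => K.inj (act_injective g (by
    show g.val *ᵥ φ x = g.val *ᵥ φ y
    rw [← hT, ← hT, e]))
  have hM : IsUnit (LinearMap.toMatrix' T) := by
    rw [← Matrix.mulVec_injective_iff_isUnit]
    intro x y e
    exact hinj (by simpa [LinearMap.toMatrix'_mulVec] using e)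
  refine ⟨hM.unit, mem_iso.2 fun x => ?_, K.gl_ext_split fun x w hw => ?_⟩
  · rw [IsUnit.unit_spec, LinearMap.toMatrix'_mulVec, ← K.map_q, hT, mem_iso.1 hg, K.map_q]
  · rw [K.emb_apply _ x hw, IsUnit.unit_spec, LinearMap.toMatrix'_mulVec, hT, Matrix.mulVec_add,
      hfix w hw]

/-- The embedding of the isometry groups. -/
noncomputable def Coord.embI : ↥(isometryGroup F Q') →* ↥(isometryGroup F Q) :=
  (K.emb.comp (isometryGroup F Q').subtype).codRestrict _ fun g => K.emb_mem g.2

variable [Fintype F]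

theorem Coord.detSpin_embI (h2 : (2 : F) ≠ 0) (g : ↥(isometryGroup F Q')) :
    detSpin Q (K.embI g) = detSpin Q' g := by
  refine refl_induction K.space' (Or.inl (card_ne_two h2))
    (fun g => detSpin Q (K.embI g) = detSpin Q' g) (by simp) (fun v hv g ih => ?_) g
  have hv' : Q (φ v) ≠ 0 := by rwa [K.map_q]
  have e : K.embI (rI K.space' v hv) = rI K.space (φ v) hv' := Subtype.ext (K.emb_rGL hv)
  rw [map_mul, map_mul, map_mul, ih, e]
  congr 1
  refine Prod.ext ((det_rI K.space hv').trans (det_rI K.space' hv).symm) ?_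
  show spin _ _ = spin _ _
  rw [spin_rI K.space h2 hv', spin_rI K.space' h2 hv, K.map_q]

/-- An element of `Ω` fixing the second summand pointwise lies in the Siegel group of the first. -/
theorem Coord.mem_root (h2 : (2 : F) ≠ 0) (h5 : 5 ≤ Fintype.card ι) (h5' : 5 ≤ Fintype.card κ) {g : GL ι F}
    (hg : g ∈ Root Q B ⊤) (hfix : ∀ w ∈ W, g.val *ᵥ w = w) : g ∈ Root Q B U := by
  obtain ⟨g', hg', rfl⟩ := K.exists_emb (root_le_iso K.space _ hg) hfix
  rw [← omegaGL_eq K.space h5, Cfsg.Geo.omegaGL] at hg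
  obtain ⟨y, hy, hyg⟩ := hg
  have hy' : y = K.embI ⟨g', hg'⟩ := Subtype.ext hyg
  change y ∈ commutator _ at hy
  rw [(omega_odd K.space h2 (by omega)).1, hy', MonoidHom.mem_ker, K.detSpin_embI h2] at hy
  have hg2 : g' ∈ Root Q' B' ⊤ := by
    rw [← omegaGL_eq K.space' h5', Cfsg.Geo.omegaGL]
    refine ⟨⟨g', hg'⟩, ?_, rfl⟩
    show _ ∈ commutator _
    rw [(omega_odd K.space' h2 (by omega)).1]
    exact hy
  rw [← K.map_root]
  exact ⟨g', hg2, rfl⟩

end Cfsg.Lib.OrthMult

namespace Cfsg.Lib.OrthMult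

open Module
open Cfsg.Lib.Linear.Orth
open scoped Matrix commutatorElement

variable {ι : Type} [Fintype ι] [DecidableEq ι] {F : Type*} [Field F]
  {Q : (ι → F) → F} {B : LinearMap.BilinForm F (ι → F)}

/-- Some coordinates on a summand. -/
theorem exists_coord_sub (C : Space Q B) {U W : Submodule F (ι → F)} (S : Split Q B U W) :
    ∃ (Q' : (Fin (finrank F U) → F) → F) (B' : LinearMap.BilinForm F (Fin (finrank F U) → F))
      (φ : (Fin (finrank F U) → F) →ₗ[F] (ι → F)), Coord Q B Q' B' U W φ := by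
  let e := (Module.finBasis F U).equivFun.symm
  refine ⟨fun x => Q (e x), B.compl₁₂ (U.subtype.comp e.toLinearMap) (U.subtype.comp e.toLinearMap),
    U.subtype.comp e.toLinearMap, C, ⟨fun c v => ?_, fun u v => ?_, fun v hv => ?_⟩, S, ?_, fun _ => rfl⟩
  · simp [C.smul]
  · simp [QuadraticMap.polar, C.add]; ring
  · refine e.injective ?_
    rw [map_zero]
    refine Subtype.ext (S.ndU _ (e v).2 fun y hy => ?_)
    obtain ⟨z, hz⟩ := e.surjective ⟨y, hy⟩
    rw [C.symm]
    have := hv z
    simpa [hz] using this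
  · rw [LinearMap.range_comp, LinearEquiv.range, Submodule.map_top, Submodule.range_subtype]

/-- The Siegel group is perfect. -/
theorem root_perfect_top [Fintype F] (C : Space Q B)
    (h : 7 ≤ Fintype.card ι ∨ (5 ≤ Fintype.card ι ∧ 4 ≤ Fintype.card F)) :
    Root Q B ⊤ ≤ ⁅Root Q B ⊤, Root Q B ⊤⁆ := by
  by_cases h7 : 7 ≤ Fintype.card ι
  · exact root_le_commutator C h7
  obtain ⟨h5, hq⟩ := h.resolve_left h7
  obtain ⟨μ, hμ0, hμ⟩ := exists_mu hq
  refine root_le_of_pairs C h5 _ fun u v hu hv huv => ?_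
  have h1 : ∀ u : ι → F, Q u = 0 → sGL Q B u (0 : ι → F) = 1 := fun u hu => gl_ext fun x => by
    rw [sGL_act C hu (by simp), C.zero]; simp
  by_cases hu0 : u = 0
  · rw [hu0, sGL_trivial C]; exact one_mem _
  by_cases hdep : v ∈ Submodule.span F {u}
  · obtain ⟨c, rfl⟩ := Submodule.mem_span_singleton.mp hdep
    have h := sGL_add_self C hu (a := 0) (map_zero _) c
    rw [zero_add] at h
    rw [h, h1 u hu]
    exact one_mem _
  have hud : u ∉ Submodule.span F {v} := fun hm => by
    obtain ⟨c, hc⟩ := Submodule.mem_span_singleton.mp hm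
    have hc0 : c ≠ 0 := fun h0 => hu0 (by rw [← hc, h0, zero_smul])
    exact hdep (Submodule.mem_span_singleton.mpr
      ⟨c⁻¹, by rw [← hc, smul_smul, inv_mul_cancel₀ hc0, one_smul]⟩)
  have S : Split Q B ⊤ (⊥ : Submodule F (ι → F)) :=
    ⟨C.ndeg_top, fun x hx _ => (Submodule.mem_bot F).mp hx,
      fun _ _ w hw => by rw [(Submodule.mem_bot F).mp hw, map_zero], sup_bot_eq ⊤⟩
  obtain ⟨z, hz, huz⟩ := exists_perpIn C S (A := Submodule.span F {v}) le_top trivial hud
  have hvz : B v z = 0 := hz.2 v (Submodule.mem_span_singleton_self v)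
  set f := z - Q z • u with hf
  have hQf : Q f = 0 := by
    rw [hf, sub_eq_add_neg, ← neg_smul, C.add, C.smul, hu, map_smul, C.symm z u, huz]; simp
  have huf : B u f = 1 := by rw [hf, map_sub, map_smul, huz, C.self_zero hu]; simp
  have hvf : B v f = 0 := by rw [hf, map_sub, map_smul, hvz, C.symm v u, huv]; simp
  have hQp : ∀ c : F, Q (u + c • f) = c := fun c => by
    rw [C.add, C.smul, hu, hQf, map_smul, huf]; simp
  have hm0 : μ ^ 2 ≠ 0 := pow_ne_zero _ hμ0
  have ha : Q (u + μ ^ 2 • f) ≠ 0 := by rw [hQp]; exact hm0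
  have hb : Q (u + f) ≠ 0 := by
    have := hQp 1; rw [one_smul] at this; rw [this]; exact one_ne_zero
  set g := rGL Q (u + μ ^ 2 • f) * rGL Q (u + f) with hgdef
  have hg : g ∈ Root Q B ⊤ := by
    rw [← omegaGL_eq C h5]
    refine ⟨rI C _ ha * rI C _ hb, rI_mul_mem_comm C (Or.inl (by omega)) ha hb ?_, rfl⟩
    have := hQp 1; rw [one_smul] at this
    rw [hQp, this, div_one]
    exact IsSquare.sq μ
  have hgv : g.val *ᵥ v = v := by
    rw [hgdef, mul_act, rGL_fix C hb, rGL_fix C ha]
    · simp [C.symm f v, hvf, huv]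
    · simp [C.symm f v, hvf, huv]
  have hgu : g.val *ᵥ u = (μ ^ 2)⁻¹ • u := by
    have e1 := hQp 1; rw [one_smul] at e1
    rw [hgdef, mul_act, rGL_act C hb, e1, map_add, LinearMap.add_apply, C.self_zero hu, C.symm f u, huf,
      zero_add, inv_one, one_mul, one_smul, sub_add_cancel_left, rGL_act C ha, hQp, map_neg, map_add,
      LinearMap.add_apply, huf, map_smul, LinearMap.smul_apply, C.self_zero hQf]
    match_scalars <;> field_simp <;> ring
  set c := (μ ^ 2)⁻¹ - 1 with hc
  have hc0 : c ≠ 0 := fun h0 => hμ (inv_eq_one.mp (sub_eq_zero.mp h0))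
  set v' := c⁻¹ • v with hv'
  have huv' : B u v' = 0 := by rw [hv', map_smul, huv, smul_zero]
  have hgv' : g.val *ᵥ v' = v' := by rw [hv', Matrix.mulVec_smul, hgv]
  have key : ⁅g, sGL Q B u v'⁆ = sGL Q B u v := by
    rw [commutatorElement_def, sGL_conj C hu huv' (root_le_iso C _ hg), hgu, hgv', sGL_smul C hu huv']
    have hB1 : B u ((μ ^ 2)⁻¹ • v') = 0 := by rw [map_smul, huv', smul_zero]
    have hB2 : B u (-v') = 0 := by rw [map_neg, huv', neg_zero]
    have hinv : (sGL Q B u v')⁻¹ = sGL Q B u (-v') := inv_eq_of_mul_eq_one_right (by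
      rw [sGL_mul C hu huv' hB2, add_neg_cancel, h1 u hu])
    rw [hinv, sGL_mul C hu hB1 hB2]
    congr 1
    rw [hv', smul_smul, ← sub_eq_add_neg, ← sub_smul,
      show (μ ^ 2)⁻¹ * c⁻¹ - c⁻¹ = c * c⁻¹ by rw [hc]; ring, mul_inv_cancel₀ hc0, one_smul]
  rw [← key]
  exact Subgroup.commutator_mem_commutator hg (sGL_mem_root trivial trivial hu huv')

/-- The Siegel group of a non-degenerate subspace is perfect. -/
theorem root_perfect [Fintype F] (C : Space Q B) {U W : Submodule F (ι → F)} (S : Split Q B U W)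
    (h : 7 ≤ finrank F U ∨ (5 ≤ finrank F U ∧ 4 ≤ Fintype.card F)) :
    ⁅Root Q B U, Root Q B U⁆ = Root Q B U := by
  obtain ⟨Q', B', φ, K⟩ := exists_coord_sub C S
  refine le_antisymm (Subgroup.commutator_le.2 fun a ha b hb => ?_) ?_
  · rw [commutatorElement_def]
    exact mul_mem (mul_mem (mul_mem ha hb) (inv_mem ha)) (inv_mem hb)
  · rw [← K.map_root, ← Subgroup.map_commutator]
    exact Subgroup.map_mono (root_perfect_top K.space' (by simpa using h))

/-- An element of `Ω` fixing a non-degenerate subspace lies in the Siegel group of its perpendicular. -/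
theorem mem_root_orth [Fintype F] (C : Space Q B) (h2 : (2 : F) ≠ 0) {A : Submodule F (ι → F)}
    (hA : NDeg B A) (h5 : 5 ≤ finrank F (orth B A)) {g : GL ι F} (hg : g ∈ Root Q B ⊤)
    (hfix : ∀ a ∈ A, g.val *ᵥ a = a) : g ∈ Root Q B (orth B A) := by
  obtain ⟨Q', B', φ, K⟩ := exists_coord_sub C (split_orth C hA)
  refine K.mem_root h2 ?_ (by simpa using h5) hg hfix
  have := Submodule.finrank_le (orth B A)
  rw [finrank_fintype_fun_eq_card] at this
  omega

end Cfsg.Lib.OrthMult
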