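import Cfsg.Agent.Lib.OrthMult.Step
import Cfsg.Agent.Lib.SpMult.Eight
import Cfsg.Agent.S0302
import Cfsg.Agent.Lib.Chev.D4Equiv
import Cfsg.Agent.Lib.Chev.StMultSmall
import Cfsg.Agent.Lib.Linear.OrthForms

/-!
# Stem extensions of `Ω` in dimensions six and eight, plus type

Both groups have a cover with a kernel of order at most two and without stem extensions.
-/

set_option autoImplicit false
set_option linter.unusedSectionVars false
set_option maxRecDepth 100000

namespace Cfsg.Lib.OrthMult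

open Module
open Cfsg.Lib.Linear.Orth
open scoped Matrix commutatorElement

universe u

/-- Every stem extension has a kernel of order at most two. -/
def StemLeTwo (G : Type u) [Group G] : Prop :=
  ∀ (Γ : Type u) [Group Γ] [Finite Γ] (σ : Γ →* G), Cfsg.IsStemExtension σ → Nat.card σ.ker ≤ 2

theorem StemLeTwo.of_equiv {G H : Type u} [Group G] [Group H] (e : G ≃* H) (h : StemLeTwo G) :
    StemLeTwo H := fun Γ _ _ σ hσ => by
  have hk : (e.symm.toMonoidHom.comp σ).ker = σ.ker := by ext x; simp [MonoidHom.mem_ker]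
  have := h Γ (e.symm.toMonoidHom.comp σ)
    ⟨e.symm.surjective.comp hσ.1, hk.le.trans hσ.2.1, hk.le.trans hσ.2.2⟩
  rwa [hk] at this

/-- A group with a cover of degree at most two without stem extensions. -/
theorem stemLeTwo_of_cover {S G : Type u} [Group S] [Group G] [Finite S] (hS : commutator S = ⊤)
    (hM : ∀ (Γ : Type u) [Group Γ] [Finite Γ] (σ : Γ →* S), Cfsg.IsStemExtension σ → σ.ker = ⊥)
    (θ : S →* G) (hθ : Function.Surjective θ) (hk : Nat.card θ.ker ≤ 2) : StemLeTwo G :=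
  fun Γ _ _ σ hσ => by
  obtain ⟨τ, hτ, hτθ⟩ := Cfsg.Lib.SpMult.lift_of_trivial hS hM θ hθ σ hσ
  refine le_trans (Nat.card_le_card_of_surjective
    (fun s : θ.ker => (⟨τ s.1, by rw [MonoidHom.mem_ker, hτθ, s.2]⟩ : σ.ker)) fun x => ?_) hk
  obtain ⟨s, hs⟩ := hτ x.1
  exact ⟨⟨s, by rw [MonoidHom.mem_ker, ← hτθ, hs, x.2]⟩, Subtype.ext hs⟩

variable {ι : Type} [Fintype ι] [DecidableEq ι] {F : Type u} [Field F]
  {Q : (ι → F) → F} {B : LinearMap.BilinForm F (ι → F)}

/-- `Ω` as the group of Siegel elements. -/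
noncomputable def omegaEquiv [Finite F] (C : Space Q B) (h5 : 5 ≤ Fintype.card ι) :
    ↥(Cfsg.Omega F Q) ≃* ↥(Root Q B ⊤) :=
  ((Cfsg.Omega F Q).equivMapOfInjective _ (isometryGroup F Q).subtype_injective).trans
    (MulEquiv.subgroupCongr (omegaGL_eq C h5))

theorem root_commutator [Fintype F] (C : Space Q B)
    (h : 7 ≤ Fintype.card ι ∨ (5 ≤ Fintype.card ι ∧ 4 ≤ Fintype.card F)) :
    commutator ↥(Root Q B ⊤) = ⊤ := by
  refine Subgroup.map_injective (Root Q B ⊤).subtype_injective ?_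
  rw [← MonoidHom.range_eq_map, Subgroup.range_subtype, commutator_def, Subgroup.map_commutator,
    ← MonoidHom.range_eq_map, Subgroup.range_subtype]
  refine le_antisymm (Subgroup.commutator_le.2 fun a ha b hb => ?_) (root_perfect_top C h)
  rw [commutatorElement_def]
  exact mul_mem (mul_mem (mul_mem ha hb) (inv_mem ha)) (inv_mem hb)

theorem omega_commutator [Fintype F] (C : Space Q B)
    (h : 7 ≤ Fintype.card ι ∨ (5 ≤ Fintype.card ι ∧ 4 ≤ Fintype.card F)) :
    commutator ↥(Cfsg.Omega F Q) = ⊤ := by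
  have h5 : 5 ≤ Fintype.card ι := by rcases h with h | h <;> omega
  let e := (omegaEquiv C h5).symm
  have := congrArg (Subgroup.map e.toMonoidHom) (root_commutator C h)
  rwa [commutator_def, Subgroup.map_commutator, Subgroup.map_top_of_surjective _ e.surjective,
    ← commutator_def] at this

variable [Fintype F]

/-- The six-dimensional plus type. -/
theorem stemLeTwo_plus_six (h2 : (2 : F) ≠ 0) (hq : 4 ≤ Fintype.card F) :
    StemLeTwo ↥(Cfsg.Omega F (Cfsg.quadFormPlus 3 F)) := by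
  classical
  obtain ⟨φ, hφ, -, hker⟩ := Cfsg.Agent.S0302.exists_wedge F
  obtain ⟨B, C⟩ := exists_space_plus (F := F) 3
  obtain ⟨hsq, -, hi4⟩ := Cfsg.Lib.Linear.SmallIso.omega_facts C (by simp) (Or.inl h2)
  have hsqr := Cfsg.Lib.Linear.SmallIso.squares_SL (ι := Fin 4) (F := F) (Or.inl h2)
  let χ : Matrix.SpecialLinearGroup (Fin 4) F →* ↥(Cfsg.Omega F (Cfsg.quadFormPlus 3 F)) :=
    (φ.codRestrict _ hφ).codRestrict _ fun g => by
      have : Cfsg.Lib.Linear.SmallIso.squares (Matrix.SpecialLinearGroup (Fin 4) F) ≤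
          (Cfsg.Omega F (Cfsg.quadFormPlus 3 F)).comap (φ.codRestrict _ hφ) :=
        (Subgroup.closure_le _).2 fun x ⟨y, hy⟩ => by
          show φ.codRestrict _ hφ x ∈ Cfsg.Omega F (Cfsg.quadFormPlus 3 F)
          rw [hy, map_mul]
          exact hsq _
      exact this (hsqr ▸ Subgroup.mem_top g)
  have hkc : χ.ker = φ.ker := by
    ext g
    exact ⟨fun h => congrArg (fun x : ↥(Cfsg.Omega F (Cfsg.quadFormPlus 3 F)) =>
      ((x : ↥(Cfsg.isometryGroup F (Cfsg.quadFormPlus 3 F))) : GL (Fin 3 ⊕ Fin 3) F)) h,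
      fun h => Subtype.ext (Subtype.ext h)⟩
  have hk2 : Nat.card χ.ker ≤ 2 := by
    rw [hkc]
    refine (Cfsg.Lib.Linear.SmallIso.card_le_roots φ.ker (fun z => z.val 0 0) (fun x hx y hy e => ?_)
      fun x hx => ?_).1
    · obtain ⟨c, -, hc⟩ := hker x hx
      obtain ⟨d, -, hd⟩ := hker y hy
      refine Subtype.ext ?_
      rw [hc, hd] at e ⊢
      simp at e
      rw [e]
    · obtain ⟨c, hc1, hc⟩ := hker x hx
      rw [hc]
      simpa using hc1
  have hsurj : Function.Surjective χ := by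
    rw [← MonoidHom.range_eq_top]
    refine Subgroup.eq_top_of_le_card _ ?_
    have h1 : Nat.card (Matrix.SpecialLinearGroup (Fin 4) F) = Nat.card χ.range * Nat.card χ.ker := by
      rw [← Nat.card_congr (QuotientGroup.quotientKerEquivRange χ).toEquiv,
        ← Subgroup.card_eq_card_quotient_mul_card_subgroup]
    have hO := (counts_plus (F := F) 3).2
    rw [Nat.card_eq_fintype_card (α := F)] at hO
    have hcard : (Nat.card ↥(Cfsg.isometryGroup F (Cfsg.quadFormPlus 3 F)) : ℤ) =
        2 * Nat.card (Matrix.SpecialLinearGroup (Fin 4) F) := by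
      rw [hO, Cfsg.Agent.S0302.card_SL_four]
      simp [Finset.prod_range_succ]
      ring
    have hcard' : Nat.card ↥(Cfsg.isometryGroup F (Cfsg.quadFormPlus 3 F)) =
        2 * Nat.card (Matrix.SpecialLinearGroup (Fin 4) F) := by exact_mod_cast hcard
    have h4 := (Cfsg.Omega F (Cfsg.quadFormPlus 3 F)).card_mul_index
    rw [hi4 h2, hcard', h1] at h4
    nlinarith [Nat.mul_le_mul_left (Nat.card χ.range) hk2]
  obtain ⟨μ, hμ0, hμ⟩ := exists_mu hq
  have hperf := Cfsg.Lib.Linear.commutator_SL_eq_top' (ι := Fin 4) (F := F) (Or.inl (by simp))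
  exact stemLeTwo_of_cover hperf (fun Γ _ _ σ hσ => Cfsg.Lib.Concrete.SLMult.ker_eq_bot
    (Or.inr (Or.inl ⟨rfl, Or.inl ⟨μ, hμ0, hμ⟩⟩)) hσ hperf) χ hsurj hk2

section Eight

open Cfsg.Lie Cfsg.Lib.Chev
open Cfsg.Lib.Chev.D4Orth (I8 repOK_D4)

local notation "Q₈" => Cfsg.quadFormPlus 4 F
local notation "St" => chevD4.SteinbergGroup F

theorem cartan_D4 : ∀ k < 4, (List.range 4).map (fun j => tblD4.cartan j (tblD4.simp' k)) =
    ([[2, -1, 0, 0], [-1, 2, -1, -1], [0, -1, 2, 0], [0, -1, 0, 2]] : List (List ℤ)).getD k [] := by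
  decide +kernel

/-- The centre of the group presented for type D4 has at most four elements. -/
theorem center_D4_le : Nat.card (Subgroup.center St) ≤ 4 := by
  classical
  let C := fullCertD4.comm.cert
  let Φ := presFam (F := F) C fullCertD4.comm
    (fun g hg => relsAB_subset hg : chevD4.steinbergRelsAB F ⊆ chevD4.steinbergRels F) subset_rfl
  have hgen : Φ.Gen := presFam_gen _ _ _ _
  have hN := hasNbr_of_chk C nbrChk_D4
  have hmul : Φ.HMul := Φ.hMul_of_finite fullCertD4 hN
  let w : F → F → ℕ → F := fun a b i => if i = 0 then a else if i = 2 then b else if i = 3 then a * b else 1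
  let T : Finset St := (({1, -1} : Finset F) ×ˢ ({1, -1} : Finset F)).image fun p => Φ.hProd (w p.1 p.2) 4
  have hsub : ((Subgroup.center St : Subgroup _) : Set St) ⊆ ↑T := fun g hg => by
    rw [SetLike.mem_coe, ← Φ.ker_projG_eq_center fullCertD4 hN hgen] at hg
    obtain ⟨v, hv, rfl⟩ := Φ.exists_hProd fullCertD4 hN hmul (Φ.ker_projG_le_torH fullCertD4 hN hgen hg)
    have h1 : Φ.proj (Φ.hProd v chevD4.rank) = 1 := congrArg Subtype.val (show Φ.projG hgen _ = 1 from hg)
    have hchr : ∀ k < 4, chr tblD4 chevD4 v (tblD4.simp' k) = 1 := fun k hk => by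
      have hp := C.spec.simp_lt k hk
      have := Φ.proj_hProd_conj hv hp (1 : F)
      rw [h1, one_mul, inv_one, mul_one, mul_one] at this
      exact (xg_param_inj C hp this).symm
    have hr : chevD4.rank = 4 := rfl
    have hprod : ∀ k < 4, v 0 ^ tblD4.cartan 0 (tblD4.simp' k) * v 1 ^ tblD4.cartan 1 (tblD4.simp' k) *
        v 2 ^ tblD4.cartan 2 (tblD4.simp' k) * v 3 ^ tblD4.cartan 3 (tblD4.simp' k) = 1 := fun k hk => by
      have := hchr k hk
      simpa [chr, hr, Finset.prod_range_succ] using this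
    have hc : ∀ k < 4, ∀ j < 4, tblD4.cartan j (tblD4.simp' k) =
        (([[2, -1, 0, 0], [-1, 2, -1, -1], [0, -1, 2, 0], [0, -1, 0, 2]] : List (List ℤ)).getD k []).getD j 0 := by
      intro k hk j hj
      rw [← cartan_D4 k hk]
      simp [List.getD, hj]
    have e0 := hprod 0 (by norm_num)
    have e1 := hprod 1 (by norm_num)
    have e2 := hprod 2 (by norm_num)
    have e3 := hprod 3 (by norm_num)
    simp (disch := norm_num) only [hc] at e0 e1 e2 e3
    simp [zpow_neg] at e0 e1 e2 e3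
    have n0 := hv 0
    have n1 := hv 1
    have n2 := hv 2
    have n3 := hv 3
    field_simp at e0 e1 e2 e3
    have f0 : v 0 ^ 2 = 1 := by
      have h8 : (v 0 ^ 2) ^ 4 = (v 0 ^ 2) ^ 3 := by
        calc (v 0 ^ 2) ^ 4 = (v 1 ^ 2) ^ 2 := by rw [e0]; ring
          _ = (v 0 * v 2 * v 3) ^ 2 := by rw [e1]
          _ = v 0 ^ 2 * v 2 ^ 2 * v 3 ^ 2 := by ring
          _ = (v 0 ^ 2) ^ 3 := by rw [e2, e3, e0]; ring
      exact mul_left_cancel₀ (pow_ne_zero 3 (pow_ne_zero 2 n0)) (by rw [mul_one, ← pow_succ]; exact h8)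
    have f1 : v 1 = 1 := e0.symm.trans f0
    have f2 : v 2 ^ 2 = 1 := e2.trans f1
    have f3 : v 3 = v 0 * v 2 := by
      rw [f1, one_pow] at e1
      have h3 : v 0 * v 2 * (v 0 * v 2) = 1 := by rw [← sq, mul_pow, f0, f2, one_mul]
      exact mul_left_cancel₀ (mul_ne_zero n0 n2) (e1.symm.trans h3.symm)
    simp only [T, Finset.coe_image, Set.mem_image, Finset.mem_coe]
    refine ⟨(v 0, v 2), ?_, ?_⟩
    · simp only [Finset.mem_product, Finset.mem_insert, Finset.mem_singleton]
      exact ⟨sq_eq_one_iff.1 f0, sq_eq_one_iff.1 f2⟩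
    · refine congrArg List.prod (List.map_congr_left fun i hi => ?_)
      have hi' : i < 4 := List.mem_range.1 hi
      congr 1
      interval_cases i <;> simp [w, f1, f3]
  calc Nat.card (Subgroup.center St) ≤ Nat.card (↑T : Set St) :=
        Nat.card_mono T.finite_toSet hsub
    _ ≤ 4 := by
        rw [Nat.card_coe_set_eq, Set.ncard_coe_finset]
        refine Finset.card_image_le.trans ?_
        rw [Finset.card_product]
        exact Nat.mul_le_mul (Finset.card_le_two) (Finset.card_le_two)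

/-- The eight-dimensional plus type. -/
theorem stemLeTwo_plus_eight (h2 : (2 : F) ≠ 0) : StemLeTwo ↥(Cfsg.Omega F Q₈) := by
  classical
  have hK : Fintype.card F ≠ 2 := card_ne_two h2
  let C := fullCertD4.comm.cert
  have hN := hasNbr_of_chk C nbrChk_D4
  haveI : Finite St := steinbergGroup_finite fullCertD4 hN (steinbergGroup_center_ne_zero fullCertD4 hN)
  let ρ : St →* ↥(Cfsg.isometryGroup F Q₈) := (MatRep.repHom repOK_D4).codRestrict _ fun g =>
    D4Orth.rootGrp_le ⟨g, rfl⟩
  let θ : St →* ↥(Cfsg.Omega F Q₈) := ρ.codRestrict _ fun g => by rw [D4Orth.omega_eq]; exact ⟨g, rfl⟩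
  have hθ : Function.Surjective θ := fun y => by
    have hy : ((y : ↥(Cfsg.isometryGroup F Q₈)) : GL I8 F) ∈ D4Orth.rootGrp F := by
      have h := y.2
      simp only [D4Orth.omega_eq] at h
      exact h
    obtain ⟨g, hg⟩ := hy
    exact ⟨g, Subtype.ext (Subtype.ext hg)⟩
  let ψ := (QuotientGroup.mk' (Subgroup.center ↥(Cfsg.Omega F Q₈))).comp θ
  have hψ : Function.Surjective ψ := (QuotientGroup.mk'_surjective _).comp hθ
  let Φ := presFam (F := F) C fullCertD4.comm
    (fun g hg => relsAB_subset hg : chevD4.steinbergRelsAB F ⊆ chevD4.steinbergRels F) subset_rfl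
  have hgen : Φ.Gen := presFam_gen _ _ _ _
  obtain ⟨e⟩ := D4Orth.nonempty_equiv (F := F)
  have hψker : ψ.ker = Subgroup.center St := by
    rw [← Φ.ker_projG_eq_center fullCertD4 hN hgen]
    have hle : (Φ.projG hgen).ker ≤ ψ.ker := fun x hx => (QuotientGroup.eq_one_iff _).2
      (D4Orth.map_center_le' _ hθ (Φ.ker_projG_le_center fullCertD4 hN hgen hx))
    refine (Subgroup.eq_of_le_of_card_ge hle ?_).symm
    have hi : ψ.ker.index = (Φ.projG hgen).ker.index := by
      rw [Subgroup.index_ker, Subgroup.index_ker, MonoidHom.range_eq_top.2 hψ,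
        MonoidHom.range_eq_top.2 (Φ.projG_surjective hgen), Nat.card_congr Subgroup.topEquiv.toEquiv,
        Nat.card_congr Subgroup.topEquiv.toEquiv]
      exact Nat.card_congr e.symm.toEquiv
    have h1 := ψ.ker.card_mul_index
    have h2 := (Φ.projG hgen).ker.card_mul_index
    rw [← hi, ← h1] at h2
    exact (Nat.eq_of_mul_eq_mul_right (Nat.pos_of_ne_zero Subgroup.index_ne_zero_of_finite) h2).ge
  obtain ⟨B, Csp⟩ := exists_space_plus (F := F) 4
  let b : Fin 4 ⊕ Fin 4 → Fin 4 ⊕ Fin 4 → F := Sum.elim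
    (fun i => Pi.single (Sum.inl i) 1 + Pi.single (Sum.inr i) 1)
    (fun i => Pi.single (Sum.inl i) 1 - Pi.single (Sum.inr i) 1)
  have hQb : ∀ i, Q₈ (b (Sum.inl i)) = 1 ∧ Q₈ (b (Sum.inr i)) = -1 := fun i => by
    fin_cases i <;> simp [b, Cfsg.quadFormPlus, Fin.sum_univ_four, Pi.single_apply]
  have hb : ∀ i, Q₈ (b i) ≠ 0 := by
    rintro (i | i)
    · rw [(hQb i).1]; exact one_ne_zero
    · rw [(hQb i).2]; exact neg_ne_zero.2 one_ne_zero
  have horth : ∀ i j, i ≠ j → B (b i) (b j) = 0 := fun i j hij => by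
    rw [← Csp.polar, QuadraticMap.polar]
    rcases i with i | i <;> rcases j with j | j <;> fin_cases i <;> fin_cases j <;>
      first
        | exact absurd rfl hij
        | simp [b, Cfsg.quadFormPlus, Fin.sum_univ_four, Pi.single_apply]
  obtain ⟨g, hg, hgv⟩ := (neg_one_mem_omega_iff Csp h2 (by simp; decide) (by simp) b rfl hb horth).2 (by
    rw [Fintype.prod_sum_type]
    simp only [(hQb _).1, (hQb _).2, IsSquare.one, if_true, Fin.prod_univ_four]
    split_ifs <;> rfl)
  obtain ⟨z, hz⟩ := hθ ⟨g, hg⟩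
  have hzc : z ∈ Subgroup.center St := by
    rw [← hψker]
    refine (QuotientGroup.eq_one_iff _).2 (show θ z ∈ Subgroup.center _ from ?_)
    rw [hz, Subgroup.mem_center_iff]
    intro y
    refine Subtype.ext (Subtype.ext (Units.ext ?_))
    show ((y : ↥(Cfsg.isometryGroup F Q₈)) : GL I8 F).val * (g : GL I8 F).val =
      (g : GL I8 F).val * ((y : ↥(Cfsg.isometryGroup F Q₈)) : GL I8 F).val
    rw [hgv]
    simp
  have hzk : z ∉ θ.ker := fun h => by
    rw [MonoidHom.mem_ker, hz] at h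
    have h1 : (-1 : Matrix I8 I8 F) = 1 := by
      rw [← hgv]
      exact congrArg (fun x : ↥(Cfsg.Omega F Q₈) => ((x : ↥(Cfsg.isometryGroup F Q₈)) : GL I8 F).val) h
    have h3 := congrFun (congrFun h1 (Sum.inl 0)) (Sum.inl 0)
    simp at h3
    exact h2 (by linear_combination -h3)
  have hlt : θ.ker < Subgroup.center St := by
    refine lt_of_le_of_ne (fun x hx => ?_) fun h => hzk (h ▸ hzc)
    rw [← hψker]
    show ψ x = 1
    rw [MonoidHom.comp_apply, MonoidHom.mem_ker.1 hx, map_one]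
  have hcard : Nat.card θ.ker ≤ 2 := by
    obtain ⟨d, hd⟩ := Subgroup.card_dvd_of_le hlt.le
    have h4 := center_D4_le (F := F)
    have hne : Nat.card θ.ker ≠ Nat.card (Subgroup.center St) := fun h =>
      hlt.ne (Subgroup.eq_of_le_of_card_ge hlt.le h.ge)
    have hd2 : 2 ≤ d := by
      rcases d with _ | _ | d
      · rw [mul_zero] at hd
        exact absurd hd (Nat.card_pos (α := Subgroup.center St)).ne'
      · exact absurd (by simpa using hd.symm) hne
      · omega
    nlinarith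
  refine stemLeTwo_of_cover D4Orth.st_perfect (fun Γ _ _ σ hσ => ?_) θ hθ hcard
  obtain ⟨π, hπ⟩ := (multiplier_steinbergGroup (F := F) (chevD4, 2) (by simp) hK).2 Γ σ hσ
  rw [eq_bot_iff]
  intro x hx
  obtain ⟨a, ha⟩ := hπ ⟨x, hx⟩
  rw [show a = 1 from Subsingleton.elim _ _, map_one] at ha
  exact Subgroup.mem_bot.2 (congrArg Subtype.val ha).symm

end Eight

end Cfsg.Lib.OrthMult
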