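import Mathlib

/-!
# Central elements of a perfect group acting on a set with witnesses

A group acting on a set, with subgroups attached to points and to witnesses.  If every triple of
points has a common witness, the witnesses give a consistent way to transport between points, and
the central elements of the group lie in the subgroup of a point.
-/

set_option autoImplicit false

namespace Cfsg.Lib.OrthMult

variable {E X W : Type*} [Group E] [MulAction E X]

/-- Points, witnesses and their subgroups. -/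
structure Sys (D : X → Subgroup E) (DW : W → Subgroup E) (perp : W → X → Prop) (wact : E → W → W) :
    Prop where
  fix : ∀ a d, d ∈ D a → d • a = a
  conjD : ∀ e a d, d ∈ D a → e * d * e⁻¹ ∈ D (e • a)
  conjW : ∀ e w d, d ∈ DW w → e * d * e⁻¹ ∈ DW (wact e w)
  perpW : ∀ e w a, perp w a → perp (wact e w) (e • a)
  mem : ∀ w a g, perp w a → g ∈ DW w → g • a = a → g ∈ D a
  trans : ∀ w a b, perp w a → perp w b → ∃ g ∈ DW w, g • a = b
  indep : ∀ w w' a b, perp w a → perp w b → perp w' a → perp w' b →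
    ∃ g ∈ DW w, ∃ g' ∈ DW w', g • a = b ∧ g' • a = b ∧ g'⁻¹ * g ∈ D a
  triple : ∀ a b x, ∃ w, perp w a ∧ perp w b ∧ perp w x

variable {D : X → Subgroup E} {DW : W → Subgroup E} {perp : W → X → Prop} {wact : E → W → W}

theorem Sys.conjD' (S : Sys D DW perp wact) {e d : E} {a b : X} (hd : d ∈ D b) (he : e • a = b) :
    e⁻¹ * d * e ∈ D a := by
  have := S.conjD e⁻¹ b d hd
  rw [inv_inv, ← he, inv_smul_smul] at this
  exact this

/-- Any two witness elements with the same effect on a point differ in its subgroup. -/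
theorem Sys.agree (S : Sys D DW perp wact) {w w' : W} {a b : X} {g g' : E} (hwa : perp w a)
    (hwb : perp w b) (hwa' : perp w' a) (hwb' : perp w' b) (hg : g ∈ DW w) (hg' : g' ∈ DW w')
    (hgab : g • a = b) (hgab' : g' • a = b) : g'⁻¹ * g ∈ D a := by
  obtain ⟨h, hh, h', hh', e1, e2, hd⟩ := S.indep w w' a b hwa hwb hwa' hwb'
  have k1 : h⁻¹ * g ∈ D a := S.mem w a _ hwa (mul_mem (inv_mem hh) hg)
    (by rw [mul_smul, hgab, inv_smul_eq_iff, e1])
  have k2 : h'⁻¹ * g' ∈ D a := S.mem w' a _ hwa' (mul_mem (inv_mem hh') hg')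
    (by rw [mul_smul, hgab', inv_smul_eq_iff, e2])
  have := mul_mem (mul_mem (inv_mem k2) hd) k1
  convert this using 1
  group

variable (x₀ : X)

open scoped Classical in
/-- A chosen witness element carrying the base point to `a`. -/
noncomputable def pick (DW : W → Subgroup E) (perp : W → X → Prop) (x₀ a : X) : E :=
  if h : ∃ g : E, ∃ w, perp w x₀ ∧ perp w a ∧ g ∈ DW w ∧ g • x₀ = a then h.choose else 1

theorem Sys.pick_spec (S : Sys D DW perp wact) (a : X) :
    ∃ w, perp w x₀ ∧ perp w a ∧ pick DW perp x₀ a ∈ DW w ∧ pick DW perp x₀ a • x₀ = a := by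
  have h : ∃ g : E, ∃ w, perp w x₀ ∧ perp w a ∧ g ∈ DW w ∧ g • x₀ = a := by
    obtain ⟨w, h1, h2, -⟩ := S.triple x₀ a a
    obtain ⟨g, hg, hga⟩ := S.trans w x₀ a h1 h2
    exact ⟨g, w, h1, h2, hg, hga⟩
  rw [pick, dif_pos h]
  exact h.choose_spec

theorem Sys.pick_smul (S : Sys D DW perp wact) (a : X) : pick DW perp x₀ a • x₀ = a := by
  obtain ⟨-, -, -, -, h⟩ := S.pick_spec x₀ a
  exact h

/-- The chosen elements are compatible with every witness element. -/
theorem Sys.flat (S : Sys D DW perp wact) {w : W} {a b : X} {g : E} (hwa : perp w a) (hwb : perp w b)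
    (hg : g ∈ DW w) (hgab : g • a = b) :
    (pick DW perp x₀ b)⁻¹ * g * pick DW perp x₀ a ∈ D x₀ := by
  obtain ⟨v, hv0, hva, hvb⟩ := S.triple x₀ a b
  obtain ⟨h1, hh1, e1⟩ := S.trans v x₀ a hv0 hva
  obtain ⟨h2, hh2, e2⟩ := S.trans v a b hva hvb
  obtain ⟨wa, wa0, waa, hma, hea⟩ := S.pick_spec x₀ a
  obtain ⟨wb, wb0, wbb, hmb, heb⟩ := S.pick_spec x₀ b
  have k1 : h1⁻¹ * pick DW perp x₀ a ∈ D x₀ := S.agree wa0 waa hv0 hva hma hh1 hea e1
  have k2 : (pick DW perp x₀ b)⁻¹ * (h2 * h1) ∈ D x₀ :=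
    S.agree hv0 hvb wb0 wbb (mul_mem hh2 hh1) hmb (by rw [mul_smul, e1, e2]) heb
  have k3 : h1⁻¹ * (h2⁻¹ * g) * h1 ∈ D x₀ :=
    S.conjD' (S.agree hwa hwb hva hvb hg hh2 hgab e2) e1
  have := mul_mem (mul_mem k2 k3) k1
  convert this using 1
  group

/-- The element of the stabiliser of the base point attached to a group element. -/
noncomputable def cst (DW : W → Subgroup E) (perp : W → X → Prop) (x₀ : X) (e : E) : E :=
  e * pick DW perp x₀ (e⁻¹ • x₀)

theorem Sys.cst_fix (S : Sys D DW perp wact) (e : E) : cst DW perp x₀ e • x₀ = x₀ := by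
  rw [cst, mul_smul, S.pick_smul, smul_inv_smul]

theorem Sys.translate (S : Sys D DW perp wact) (e : E) (a : X) :
    (pick DW perp x₀ a * cst DW perp x₀ e)⁻¹ * (e * pick DW perp x₀ (e⁻¹ • a)) ∈ D x₀ := by
  obtain ⟨w, h0, ha, hm, hs⟩ := S.pick_spec x₀ a
  set s := pick DW perp x₀ a
  set p := pick DW perp x₀ (e⁻¹ • x₀) with hp
  have hg : e⁻¹ * s * e ∈ DW (wact e⁻¹ w) := by simpa using S.conjW e⁻¹ w s hm
  have hflat := S.flat x₀ (S.perpW e⁻¹ w x₀ h0) (S.perpW e⁻¹ w a ha) hg
    (by rw [mul_smul, smul_inv_smul, mul_smul, hs])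
  have := inv_mem hflat
  convert this using 1
  rw [cst, ← hp]
  group

/-- A central element of a perfect group lies in the subgroup of the base point. -/
theorem Sys.central_mem (S : Sys D DW perp wact) (hE : commutator E = ⊤)
    (hfull : ∀ e : E, e • x₀ = x₀ → ∃ z ∈ Subgroup.center E, z⁻¹ * e ∈ D x₀) {k : E}
    (hk : k ∈ Subgroup.center E) (hkx : k • x₀ = x₀) : k ∈ D x₀ := by
  let St : Subgroup E := MulAction.stabilizer E x₀
  let N : Subgroup St := (D x₀).subgroupOf St
  haveI hN : N.Normal := ⟨fun n hn g => by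
    have := S.conjD g.1 x₀ n.1 hn
    rwa [show (g.1 : E) • x₀ = x₀ from g.2] at this⟩
  have habel : ∀ p q : St ⧸ N, p * q = q * p := by
    intro p q
    induction p using QuotientGroup.induction_on with | _ p =>
    induction q using QuotientGroup.induction_on with | _ q =>
    obtain ⟨z, hz, hd⟩ := hfull p.1 p.2
    obtain ⟨y, hy, hd'⟩ := hfull q.1 q.2
    have hzmem : z ∈ St := by
      have h1 : (z⁻¹ * p.1) • x₀ = x₀ := S.fix _ _ hd
      rw [mul_smul, p.2, inv_smul_eq_iff] at h1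
      exact h1.symm
    have hpz : (QuotientGroup.mk p : St ⧸ N) = QuotientGroup.mk ⟨z, hzmem⟩ :=
      (QuotientGroup.eq (s := N).2 (show ((⟨z, hzmem⟩ : St)⁻¹ * p) ∈ N from hd)).symm
    rw [hpz, ← QuotientGroup.mk_mul, ← QuotientGroup.mk_mul]
    congr 1
    exact Subtype.ext (Subgroup.mem_center_iff.1 hz q.1).symm
  let φ : E →* St ⧸ N :=
    { toFun := fun e => QuotientGroup.mk ⟨cst DW perp x₀ e, S.cst_fix x₀ e⟩
      map_one' := by
        refine (QuotientGroup.eq_one_iff _).2 ?_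
        show cst DW perp x₀ 1 ∈ D x₀
        obtain ⟨w, h0, -, hm, hs⟩ := S.pick_spec x₀ x₀
        rw [cst, one_mul, inv_one, one_smul]
        exact S.mem w x₀ _ h0 hm hs
      map_mul' := fun e e' => by
        show (QuotientGroup.mk (⟨_, _⟩ : St) : St ⧸ N) = QuotientGroup.mk (⟨_, _⟩ * ⟨_, _⟩ : St)
        refine (QuotientGroup.eq.2 ?_).symm
        show (cst DW perp x₀ e * cst DW perp x₀ e')⁻¹ * cst DW perp x₀ (e * e') ∈ D x₀
        have := S.translate x₀ e' (e⁻¹ • x₀)
        convert this using 1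
        simp only [cst, mul_inv_rev, mul_smul]
        group }
  letI : CommGroup (St ⧸ N) := { (inferInstance : Group (St ⧸ N)) with mul_comm := habel }
  have h1 : φ k = 1 := by
    have : commutator E ≤ φ.ker := Abelianization.commutator_subset_ker φ
    exact this (hE ▸ Subgroup.mem_top k)
  have h2 : cst DW perp x₀ k ∈ D x₀ :=
    (QuotientGroup.eq_one_iff (N := N) ⟨cst DW perp x₀ k, S.cst_fix x₀ k⟩).1 h1
  obtain ⟨w, h0, -, hm, hs⟩ := S.pick_spec x₀ (k⁻¹ • x₀)
  rw [cst, show k⁻¹ • x₀ = x₀ by rw [inv_smul_eq_iff, hkx]] at h2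
  obtain ⟨v, hv, -, hvm, hvs⟩ := S.pick_spec x₀ x₀
  have := mul_mem h2 (inv_mem (S.mem v x₀ _ hv hvm hvs))
  rwa [mul_inv_cancel_right] at this

end Cfsg.Lib.OrthMult
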