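import Cfsg.Agent.Lib.OrthMult.Bound
import Mathlib.LinearAlgebra.CliffordAlgebra.Contraction
import Mathlib.LinearAlgebra.CliffordAlgebra.Inversion

/-!
# The double cover of `Ω` inside the Clifford algebra

Pairs of a unit of the algebra and an element of `Ω` such that the unit implements the element on
vectors.  The derived group is a finite perfect central extension of `Ω` containing `-1`.
-/

set_option autoImplicit false

namespace Cfsg.Lib.OrthMult

open Module
open Cfsg.Lib.Linear.Orth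
open scoped Matrix commutatorElement

universe u

variable {ι : Type} [Fintype ι] [DecidableEq ι] {F : Type u} [Field F]
  {Q : (ι → F) → F} {B : LinearMap.BilinForm F (ι → F)}

/-- The quadratic form of a space. -/
def formOf (C : Space Q B) : QuadraticForm F (ι → F) where
  toFun := Q
  toFun_smul := fun a x => by rw [C.smul, sq, smul_eq_mul]
  exists_companion' := ⟨B, fun x y => C.add x y⟩

theorem formOf_polar (C : Space Q B) (x y : ι → F) : QuadraticMap.polar (formOf C) x y = B x y :=
  C.polar x y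

local notation "Cl" C => CliffordAlgebra (formOf C)

/-- The vector of the algebra. -/
abbrev vec (C : Space Q B) : (ι → F) →ₗ[F] Cl C := CliffordAlgebra.ι (formOf C)

theorem vec_sq (C : Space Q B) (a : ι → F) : vec C a * vec C a = algebraMap F (Cl C) (Q a) :=
  CliffordAlgebra.ι_sq_scalar _ _

theorem vec_swap (C : Space Q B) {a b : ι → F} (h : B a b = 0) : vec C a * vec C b = -(vec C b * vec C a) := by
  rw [CliffordAlgebra.ι_mul_ι_comm, formOf_polar, h, map_zero, zero_sub]

theorem vec_refl (C : Space Q B) {a : ι → F} (ha : Q a ≠ 0) (v : ι → F) :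
    vec C a * vec C v = vec C (-((rGL Q a).val *ᵥ v)) * vec C a := by
  rw [CliffordAlgebra.ι_mul_ι_comm, formOf_polar, rGL_act C ha, neg_sub, map_sub, map_smul,
    sub_mul, smul_mul_assoc, vec_sq, Algebra.smul_def, ← map_mul (algebraMap F (Cl C))]
  congr 2
  field_simp

theorem cl_nontrivial (C : Space Q B) (h2 : (2 : F) ≠ 0) : Nontrivial (Cl C) := by
  haveI : Invertible (2 : F) := invertibleOfNonzero h2
  infer_instance

theorem vec_injective (C : Space Q B) (h2 : (2 : F) ≠ 0) : Function.Injective (vec C) := fun x y h => by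
  haveI : Invertible (2 : F) := invertibleOfNonzero h2
  have h' := congrArg (CliffordAlgebra.equivExterior (formOf C)) h
  simp only [CliffordAlgebra.equivExterior, CliffordAlgebra.changeFormEquiv_apply,
    CliffordAlgebra.changeForm_ι] at h'
  exact ExteriorAlgebra.ι_inj F x y |>.1 h'

/-- A unit implementing an isometry on vectors. -/
def Impl (C : Space Q B) (x : (Cl C)ˣ) (g : GL ι F) : Prop :=
  ∀ v, (x : Cl C) * vec C v = vec C (g.val *ᵥ v) * (x : Cl C)

theorem Impl.mul {C : Space Q B} {x y : (Cl C)ˣ} {g h : GL ι F} (hx : Impl C x g) (hy : Impl C y h) :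
    Impl C (x * y) (g * h) := fun v => by
  rw [Units.val_mul, mul_assoc, hy, ← mul_assoc, hx, mul_assoc, mul_act]

theorem Impl.one (C : Space Q B) : Impl C 1 1 := fun v => by simp

theorem Impl.inv {C : Space Q B} {x : (Cl C)ˣ} {g : GL ι F} (hx : Impl C x g) : Impl C x⁻¹ g⁻¹ :=
  fun v => by
  have h := hx ((g⁻¹ : GL ι F).val *ᵥ v)
  rw [act_inv] at h
  rw [Units.inv_mul_eq_iff_eq_mul, ← mul_assoc, h, Units.mul_inv_cancel_right]

theorem Impl.pair {C : Space Q B} {a b : ι → F} (ha : Q a = 1) (hb : Q b = 1) :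
    ∃ x : (Cl C)ˣ, (x : Cl C) = vec C a * vec C b ∧ Impl C x (rGL Q a * rGL Q b) := by
  refine ⟨⟨vec C a * vec C b, vec C b * vec C a, ?_, ?_⟩, rfl, fun v => ?_⟩
  · rw [mul_assoc, ← mul_assoc (vec C b), vec_sq, hb, map_one, one_mul, vec_sq, ha, map_one]
  · rw [mul_assoc, ← mul_assoc (vec C a), vec_sq, ha, map_one, one_mul, vec_sq, hb, map_one]
  · show vec C a * vec C b * vec C v = _ * (vec C a * vec C b)
    rw [mul_assoc, vec_refl C (by rw [hb]; exact one_ne_zero), ← mul_assoc,
      vec_refl C (by rw [ha]; exact one_ne_zero), Matrix.mulVec_neg, neg_neg, mul_act, mul_assoc]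

theorem exists_impl [Fintype F] (C : Space Q B) (h2 : (2 : F) ≠ 0) (g : ↥(isometryGroup F Q)) :
    ∃ x : (Cl C)ˣ, ∀ v, (x : Cl C) * vec C v =
      vec C ((g : GL ι F).val.det • ((g : GL ι F).val *ᵥ v)) * (x : Cl C) := by
  refine refl_induction C (Or.inl (card_ne_two h2)) (fun g => ∃ x : (Cl C)ˣ, ∀ v, (x : Cl C) * vec C v =
    vec C ((g : GL ι F).val.det • ((g : GL ι F).val *ᵥ v)) * (x : Cl C)) ⟨1, fun v => by simp⟩
    (fun a ha g ih => ?_) g
  obtain ⟨x, hx⟩ := ih
  have hu : IsUnit (vec C a) := CliffordAlgebra.isUnit_ι_of_isUnit (Q := formOf C) (isUnit_iff_ne_zero.2 ha)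
  refine ⟨hu.unit * x, fun v => ?_⟩
  rw [Units.val_mul, IsUnit.unit_spec, mul_assoc, hx, ← mul_assoc, vec_refl C ha, mul_assoc]
  congr 2
  show _ = (rGL Q a * (g : GL ι F)).val.det • ((rGL Q a * (g : GL ι F)).val *ᵥ v)
  rw [Matrix.mulVec_smul, mul_act, Units.val_mul, Matrix.det_mul, rGL_det C ha]
  module

/-- The units implementing elements of `Ω`. -/
def cover [Finite F] (C : Space Q B) : Subgroup ((Cl C)ˣ × ↥(Cfsg.Omega F Q)) where
  carrier := {p | Impl C p.1 ((p.2 : ↥(isometryGroup F Q)) : GL ι F)}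
  mul_mem' ha hb := Impl.mul ha hb
  one_mem' := Impl.one C
  inv_mem' ha := Impl.inv ha

variable [Fintype F]

/-- The projection of the cover to `Ω`. -/
def coverProj (C : Space Q B) : cover C →* ↥(Cfsg.Omega F Q) :=
  (MonoidHom.snd _ _).comp (cover C).subtype

theorem coverProj_surjective (C : Space Q B) (h2 : (2 : F) ≠ 0) (hn : 2 ≤ Fintype.card ι) :
    Function.Surjective (coverProj C) := fun g => by
  obtain ⟨x, hx⟩ := exists_impl C h2 g.1
  have hd : ((g : ↥(isometryGroup F Q)) : GL ι F).val.det = 1 := by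
    have hg : (g : ↥(isometryGroup F Q)) ∈ commutator _ := g.2
    rw [(omega_odd C h2 hn).1] at hg
    exact congrArg (fun p : Fˣ × ℤˣ => (p.1 : F)) hg
  exact ⟨⟨(x, g), fun v => by rw [hx, hd, one_smul]⟩, rfl⟩

theorem coverProj_ker (C : Space Q B) (h2 : (2 : F) ≠ 0) :
    (coverProj C).ker ≤ Subgroup.center (cover C) := fun p hp => by
  have h1 : p.1.2 = 1 := hp
  have hp' := p.2
  change Impl C p.1.1 _ at hp'
  rw [h1] at hp'
  have hall : ∀ a : Cl C, Commute (p.1.1 : Cl C) a := by
    intro a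
    induction a using CliffordAlgebra.induction with
    | algebraMap r => exact (Algebra.commutes r _).symm
    | ι v =>
      have := hp' v
      simpa [Commute, SemiconjBy] using this
    | mul a b ha hb => exact ha.mul_right hb
    | add a b ha hb => exact ha.add_right hb
  refine Subgroup.mem_center_iff.2 fun r => Subtype.ext (Prod.ext (Units.ext ?_) ?_)
  · exact (hall r.1.1).symm
  · show r.1.2 * p.1.2 = p.1.2 * r.1.2
    rw [h1, mul_one, one_mul]

/-- The double cover. -/
abbrev Dbl (C : Space Q B) : Subgroup (cover C) := commutator (cover C)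

/-- The projection of the double cover. -/
def dblProj (C : Space Q B) : Dbl C →* ↥(Cfsg.Omega F Q) := (coverProj C).comp (Dbl C).subtype

theorem finite_dbl (C : Space Q B) (h2 : (2 : F) ≠ 0) (hn : 2 ≤ Fintype.card ι) : Finite (Dbl C) := by
  haveI : Finite ↥(Cfsg.Omega F Q) := inferInstance
  obtain ⟨L, hL⟩ := (coverProj_surjective C h2 hn).hasRightInverse
  haveI : Finite (commutatorSet (cover C)) := by
    refine (Set.finite_range fun p : ↥(Cfsg.Omega F Q) × ↥(Cfsg.Omega F Q) => ⁅L p.1, L p.2⁆).subset ?_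
      |>.to_subtype
    rintro _ ⟨a, b, rfl⟩
    refine ⟨(coverProj C a, coverProj C b), ?_⟩
    have hz : ∀ a, (L (coverProj C a))⁻¹ * a ∈ Subgroup.center (cover C) := fun a =>
      coverProj_ker C h2 (by rw [MonoidHom.mem_ker, map_mul, map_inv, hL, inv_mul_cancel])
    have := Cfsg.Lib.Chev.comm_mul_central (a := L (coverProj C a)) (b := L (coverProj C b)) (hz a) (hz b)
    rw [mul_inv_cancel_left, mul_inv_cancel_left] at this
    exact this.symm
  infer_instance

theorem dblProj_stem (C : Space Q B) (h2 : (2 : F) ≠ 0) (hn : 2 ≤ Fintype.card ι)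
    (hO : commutator ↥(Cfsg.Omega F Q) = ⊤) :
    Cfsg.IsStemExtension (dblProj C) ∧ commutator (Dbl C) = ⊤ := by
  have hmap : (Dbl C).map (coverProj C) = ⊤ := by
    rw [Dbl, commutator_def, Subgroup.map_commutator,
      Subgroup.map_top_of_surjective _ (coverProj_surjective C h2 hn), ← commutator_def, hO]
  have hs : Function.Surjective (dblProj C) := fun g => by
    obtain ⟨x, hx, hxg⟩ := hmap ▸ Subgroup.mem_top g
    exact ⟨⟨x, hx⟩, hxg⟩
  have hc : (dblProj C).ker ≤ Subgroup.center (Dbl C) := fun x hx =>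
    Subgroup.mem_center_iff.2 fun y => Subtype.ext (Subgroup.mem_center_iff.1 (coverProj_ker C h2 hx) y.1)
  have hp : commutator (Dbl C) = ⊤ := by
    refine Subgroup.map_injective (Dbl C).subtype_injective ?_
    rw [← MonoidHom.range_eq_map, Subgroup.range_subtype, commutator_def, Subgroup.map_commutator,
      ← MonoidHom.range_eq_map, Subgroup.range_subtype]
    refine le_antisymm (Subgroup.commutator_mono le_top le_top |>.trans (commutator_def _).ge) ?_
    rw [Dbl, commutator_eq_closure, Subgroup.closure_le]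
    rintro _ ⟨a, b, rfl⟩
    obtain ⟨a', ea⟩ := hs (coverProj C a)
    obtain ⟨b', eb⟩ := hs (coverProj C b)
    have hz : ∀ (a : cover C) (a' : Dbl C), dblProj C a' = coverProj C a →
        (a' : cover C)⁻¹ * a ∈ Subgroup.center (cover C) := fun a a' e =>
      coverProj_ker C h2 (by rw [MonoidHom.mem_ker, map_mul, map_inv,
        show coverProj C (a' : cover C) = coverProj C a from e, inv_mul_cancel])
    have := Cfsg.Lib.Chev.comm_mul_central (a := (a' : cover C)) (b := (b' : cover C)) (hz a a' ea) (hz b b' eb)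
    rw [mul_inv_cancel_left, mul_inv_cancel_left] at this
    rw [SetLike.mem_coe, this, ← commutator_eq_closure]
    exact Subgroup.commutator_mem_commutator a'.2 b'.2
  exact ⟨⟨hs, hc, hp ▸ le_top⟩, hp⟩

/-- A pair of perpendicular unit vectors in the double cover. -/
theorem exists_pair_dbl (C : Space Q B) (h2 : (2 : F) ≠ 0) (h7 : 7 ≤ Fintype.card ι) {d b : ι → F}
    (hd : Q d = 1) (hb : Q b = 1) (hdb : B d b = 0) :
    ∃ p : cover C, p ∈ Dbl C ∧ (p.1.1 : Cl C) = vec C d * vec C b ∧
      ((p.1.2 : ↥(isometryGroup F Q)) : GL ι F) = rGL Q d * rGL Q b := by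
  obtain ⟨hn, hdim⟩ := ndeg_two C h2 one_ne_zero hd hb (orth_sq C h2 one_ne_zero hdb)
  obtain ⟨a, ha, hQa⟩ := exists_value_ndeg C (split_orth C hn).ndU
    (by have := orth_finrank C hn; omega) one_ne_zero
  have had : B a d = 0 := by rw [C.symm]; exact mem_orth_span.1 ha d (by simp)
  have hab : B a b = 0 := by rw [C.symm]; exact mem_orth_span.1 ha b (by simp)
  have hn1 := ndeg_one C h2 one_ne_zero hQa
  have hd1 := orth_finrank C hn1
  rw [finrank_one C h2 one_ne_zero hQa] at hd1
  obtain ⟨y, hy, hyd⟩ := trans C (split_orth C hn1).ndU (by omega)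
    (mem_orth_span.2 (by simpa using had)) (mem_orth_span.2 (by simpa using hab))
    (fun h => by rw [h, C.zero] at hd; exact zero_ne_one hd)
    (fun h => by rw [h, C.zero] at hb; exact zero_ne_one hb) (hd.trans hb.symm)
  have hyT : y ∈ Cfsg.Geo.omegaGL Q := by
    rw [omegaGL_eq C (by omega)]; exact root_mono le_top hy
  obtain ⟨y', hy', rfl⟩ := hyT
  obtain ⟨Y, hY⟩ := coverProj_surjective C h2 (by omega) ⟨y', hy'⟩
  have hne : ∀ {v}, Q v = 1 → Q v ≠ 0 := fun h => by rw [h]; exact one_ne_zero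
  have hIy : Impl C Y.1.1 (y' : GL ι F) := by
    have h1 : Y.1.2 = (⟨y', hy'⟩ : ↥(Cfsg.Omega F Q)) := hY
    have h3 : Impl C Y.1.1 ((Y.1.2 : ↥(isometryGroup F Q)) : GL ι F) := Y.2
    rw [h1] at h3
    exact h3
  have hrel : ∀ {p q : ι → F}, (hp : Q p = 1) → (hq : Q q = 1) →
      rI C p (hne hp) * rI C q (hne hq) ∈ Cfsg.Omega F Q := fun hp hq =>
    rI_mul_mem_comm C (Or.inl (card_ne_two h2)) (hne hp) (hne hq) (by rw [hp, hq, div_one]; exact IsSquare.one)
  obtain ⟨x, hx, hxI⟩ := Impl.pair (C := C) hQa hd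
  let A : cover C := ⟨(x, ⟨_, hrel hQa hd⟩), hxI⟩
  obtain ⟨z, hz, hzI⟩ := Impl.pair (C := C) hd hb
  let P : cover C := ⟨(z, ⟨_, hrel hd hb⟩), hzI⟩
  have hya : (y' : GL ι F).val *ᵥ a = a := root_fix C hy (Submodule.mem_span_singleton_self a)
  have hunit : (⁅A, Y⁆ : cover C).1.1 = z := by
    rw [commutatorElement_def]
    show x * Y.1.1 * x⁻¹ * Y.1.1⁻¹ = z
    rw [mul_inv_eq_iff_eq_mul, mul_inv_eq_iff_eq_mul]
    refine Units.ext ?_
    simp only [Units.val_mul, hx, hz]
    have e1 := hIy a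
    rw [hya] at e1
    have e2 := hIy d
    rw [show (y' : GL ι F).val *ᵥ d = b from hyd] at e2
    calc vec C a * vec C d * (Y.1.1 : Cl C)
        = vec C d * vec C b * (vec C a * vec C b) * (Y.1.1 : Cl C) := by
          congr 1
          rw [← mul_assoc, mul_assoc (vec C d), vec_swap C (a := b) (b := a) (by rw [C.symm]; exact hab),
            mul_neg, neg_mul, ← mul_assoc, mul_assoc (vec C d * vec C a), vec_sq, hb, map_one, mul_one,
            vec_swap C had]
      _ = vec C d * vec C b * ((Y.1.1 : Cl C) * (vec C a * vec C d)) := by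
          rw [← mul_assoc (Y.1.1 : Cl C), e1, mul_assoc (vec C a) (Y.1.1 : Cl C), e2]
          simp only [mul_assoc]
      _ = vec C d * vec C b * (Y.1.1 : Cl C) * (vec C a * vec C d) := by simp only [mul_assoc]
  refine ⟨P, ?_, hz, rfl⟩
  have hPe : ⁅A, Y⁆ = P := by
    refine Subtype.ext (Prod.ext hunit (Subtype.ext (Subtype.ext (gl_ext fun v => ?_))))
    have h1 := (⁅A, Y⁆ : cover C).2
    change Impl C _ _ at h1
    have h1v := h1 v
    have h2v := hzI v
    rw [hunit, h2v] at h1v
    exact vec_injective C h2 (z.isUnit.mul_left_injective h1v).symm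
  rw [← hPe]
  exact Subgroup.commutator_mem_commutator (Subgroup.mem_top _) (Subgroup.mem_top _)

/-- `-1` belongs to the double cover. -/
theorem exists_neg_one (C : Space Q B) (h2 : (2 : F) ≠ 0) (h7 : 7 ≤ Fintype.card ι) :
    ∃ p : cover C, p ∈ Dbl C ∧ (p.1.1 : Cl C) = -1 ∧ p.1.2 = 1 := by
  obtain ⟨a, -, ha⟩ := exists_value_ndeg C C.ndeg_top (by
    rw [finrank_top, finrank_fintype_fun_eq_card]; omega) one_ne_zero
  obtain ⟨b, hb, hba, -, -⟩ := exists_common C h2 one_ne_zero h7 ha a a
  obtain ⟨d, hd, hda, hdb, -⟩ := exists_common C h2 one_ne_zero h7 ha b b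
  obtain ⟨P, -, hP, hP2⟩ := exists_pair_dbl C h2 h7 ha hb (by rw [C.symm]; exact hba)
  obtain ⟨R, -, hR, hR2⟩ := exists_pair_dbl C h2 h7 hb hd (by rw [C.symm]; exact hdb)
  have hc : (⁅P, R⁆ : cover C).1.1 = -1 := by
    rw [commutatorElement_def]
    show P.1.1 * R.1.1 * P.1.1⁻¹ * R.1.1⁻¹ = -1
    rw [mul_inv_eq_iff_eq_mul, mul_inv_eq_iff_eq_mul]
    refine Units.ext ?_
    simp only [Units.val_mul, Units.val_neg, Units.val_one, hP, hR, neg_mul, one_mul]
    have hab' : B a b = 0 := by rw [C.symm]; exact hba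
    have had' : B d a = 0 := hda
    have e1 : vec C a * vec C b * (vec C b * vec C d) = vec C a * vec C d := by
      rw [mul_assoc, ← mul_assoc (vec C b), vec_sq, hb, map_one, one_mul]
    have e2 : vec C b * vec C d * (vec C a * vec C b) = -(vec C a * vec C d) := by
      rw [mul_assoc, ← mul_assoc (vec C d), vec_swap C had', neg_mul, mul_neg, mul_assoc (vec C a),
        vec_swap C hdb, mul_neg, mul_neg, neg_neg, ← mul_assoc, vec_swap C hba, neg_mul, mul_assoc,
        ← mul_assoc (vec C b), vec_sq, hb, map_one, one_mul]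
    rw [e1, e2, neg_neg]
  refine ⟨⁅P, R⁆, Subgroup.commutator_mem_commutator (Subgroup.mem_top _) (Subgroup.mem_top _), ?_, ?_⟩
  · rw [hc]; simp
  · refine Subtype.ext (Subtype.ext (gl_ext fun v => ?_))
    have h1 := (⁅P, R⁆ : cover C).2 v
    rw [hc, Units.val_neg, Units.val_one, neg_mul, one_mul, mul_neg, mul_one, neg_inj] at h1
    rw [← vec_injective C h2 h1]
    simp

end Cfsg.Lib.OrthMult
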