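import Cfsg.Agent.Lib.OrthMult.Base
import Cfsg.Agent.Lib.Linear.OrthStdBasis

/-!
# Stem extensions of `Ω` in odd characteristic have a kernel of order at most two

Induction on the dimension through the stabiliser of a vector of non-zero norm.
-/

set_option autoImplicit false
set_option linter.unusedSectionVars false

namespace Cfsg.Lib.OrthMult

open Module
open Cfsg.Lib.Linear.Orth
open scoped Matrix

universe u

variable {ι : Type} [Fintype ι] [DecidableEq ι] {F : Type u} [Field F]
  {Q : (ι → F) → F} {B : LinearMap.BilinForm F (ι → F)}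

theorem singular_sum (C : Space Q B) {κ : Type*} (g : κ → ι → F) (hg : ∀ i, Q (g i) = 0)
    (hgg : ∀ i j, i ≠ j → B (g i) (g j) = 0) (x : κ → F) (s : Finset κ) :
    Q (∑ i ∈ s, x i • g i) = 0 := by
  classical
  induction s using Finset.induction with
  | empty => simpa using C.zero
  | insert a s has ih =>
    rw [Finset.sum_insert has, C.add, ih, C.smul, hg, map_smul, LinearMap.smul_apply, map_sum,
      Finset.sum_eq_zero fun j hj => by
        rw [map_smul, hgg a j (fun h => has (h ▸ hj)), smul_zero]]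
    simp

/-- A vector with stabiliser of plus type in odd dimension. -/
theorem exists_plus_stab [Fintype F] (C : Space Q B) (h2 : (2 : F) ≠ 0) (m : ℕ)
    (hn : Fintype.card ι = 2 * m + 1) :
    ∃ (x₀ : ι → F) (c : F) (φ : (Fin m ⊕ Fin m → F) →ₗ[F] (ι → F))
      (B' : LinearMap.BilinForm F (Fin m ⊕ Fin m → F)), c ≠ 0 ∧ Q x₀ = c ∧
      Coord Q B (Cfsg.quadFormPlus m F) B' (perp1 B x₀) (Submodule.span F {x₀}) φ := by
  classical
  obtain ⟨e, f, W, hF, -, hW, hWd, -, hWo⟩ := exists_pairs C (r := 1) le_rfl m ⊤ C.ndeg_top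
    (by rw [finrank_top, finrank_fintype_fun_eq_card, hn]; omega)
  obtain ⟨x₀, hx, hQ⟩ := exists_nonsing C hW (fun h => by rw [h, finrank_bot] at hWd; omega)
  obtain ⟨B', C'⟩ := exists_space_plus (F := F) m
  let φ : (Fin m ⊕ Fin m → F) →ₗ[F] (ι → F) :=
    ∑ i, ((LinearMap.proj (Sum.inl i)).smulRight (e i) + (LinearMap.proj (Sum.inr i)).smulRight (f i))
  have hφ : ∀ v, φ v = (∑ i, v (.inl i) • e i) + ∑ i, v (.inr i) • f i := fun v => by
    simp [φ, Finset.sum_add_distrib]
  have hQφ : ∀ v, Q (φ v) = Cfsg.quadFormPlus m F v := fun v => by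
    rw [hφ, C.add, singular_sum C e hF.singE hF.ee, singular_sum C f hF.singF hF.ff, zero_add,
      zero_add, Cfsg.quadFormPlus, map_sum]
    refine Finset.sum_congr rfl fun i _ => ?_
    rw [map_smul, map_sum, LinearMap.sum_apply, Finset.sum_eq_single i (fun j _ hj => by
      rw [map_smul, LinearMap.smul_apply, hF.ef j i hj, smul_zero]) (fun h => absurd (Finset.mem_univ i) h),
      map_smul, LinearMap.smul_apply, hF.pair]
    simp [mul_comm]
  have hN := ndeg_one C h2 hQ (a := x₀) rfl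
  refine ⟨x₀, Q x₀, φ, B', hQ, rfl, ⟨C, C', split_orth C hN, ?_, hQφ⟩⟩
  have hle : LinearMap.range φ ≤ perp1 B x₀ := by
    rintro _ ⟨v, rfl⟩
    refine mem_orth_span.2 fun a ha => ?_
    rw [Set.mem_singleton_iff.1 ha, hφ, map_add, map_sum, map_sum,
      Finset.sum_eq_zero fun i _ => by rw [map_smul, C.symm, (hWo i x₀ hx).1, smul_zero],
      Finset.sum_eq_zero fun i _ => by rw [map_smul, C.symm, (hWo i x₀ hx).2, smul_zero], add_zero]
  have hinj : Function.Injective φ := (injective_iff_map_eq_zero φ).2 fun v hv => C'.nondeg' fun w => by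
    rw [← C'.polar, QuadraticMap.polar, ← hQφ, ← hQφ, ← hQφ, map_add, hv, zero_add, C.zero]
    ring
  refine Submodule.eq_of_le_of_finrank_eq hle ?_
  have h1 := finrank_one C h2 hQ (a := x₀) rfl
  have h3 := orth_finrank C hN
  rw [LinearMap.finrank_range_of_inj hinj, finrank_fintype_fun_eq_card, Fintype.card_sum, Fintype.card_fin]
  show m + m = finrank F (orth B (Submodule.span F {x₀}))
  omega

/-- Stem extensions of `Ω` in odd characteristic. -/
theorem stemLeTwo_root [Fintype F] (h2 : (2 : F) ≠ 0) : ∀ (n : ℕ) (ι : Type) [Fintype ι] [DecidableEq ι]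
    (Q : (ι → F) → F) (B : LinearMap.BilinForm F (ι → F)), Space Q B → Fintype.card ι = n → 7 ≤ n →
    (9 ≤ n ∨ 4 ≤ Fintype.card F) → StemLeTwo ↥(Root Q B ⊤) := by
  intro n
  induction n using Nat.strong_induction_on with
  | _ n ih =>
    intro ι _ _ Q B C hn h7 hq Γ _ _ σ hσ
    have hq' : 9 ≤ Fintype.card ι ∨ 4 ≤ Fintype.card F := hn ▸ hq
    have hperf : commutator ↥(Root Q B ⊤) = ⊤ := root_commutator C (Or.inl (by omega))
    suffices H : ∃ (x₀ : ι → F) (c : F), c ≠ 0 ∧ Q x₀ = c ∧ StemLeTwo ↥(Root Q B (perp1 B x₀)) by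
      obtain ⟨x₀, c, hc, hx, hU⟩ := H
      exact card_ker_le_of_stab σ C h2 (by omega) hq' hσ hperf hc hx hU
    by_cases hodd : n % 2 = 1 ∧ n ≤ 9
    · obtain ⟨m, hm, hm34⟩ : ∃ m, n = 2 * m + 1 ∧ (m = 3 ∨ m = 4) := ⟨n / 2, by omega, by omega⟩
      obtain ⟨x₀, c, φ, B', hc, hx, K⟩ := exists_plus_stab C h2 m (hn.trans hm)
      refine ⟨x₀, c, hc, hx, StemLeTwo.of_equiv K.rootEquiv ?_⟩
      rcases hm34 with rfl | rfl
      · exact (stemLeTwo_plus_six h2 (hq.resolve_left (by omega))).of_equiv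
          (omegaEquiv K.space' (by simp))
      · exact (stemLeTwo_plus_eight h2).of_equiv (omegaEquiv K.space' (by simp))
    · obtain ⟨v, -, hv⟩ := exists_nonsing C C.ndeg_top (fun h => by
        have := congrArg (fun U : Submodule F (ι → F) => finrank F U) h
        simp [finrank_fintype_fun_eq_card] at this
        omega)
      have hN := ndeg_one C h2 hv (a := v) rfl
      obtain ⟨Q', B', φ, K⟩ := exists_coord_sub C (split_orth C hN)
      have hd := orth_finrank C hN
      rw [finrank_one C h2 hv (a := v) rfl] at hd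
      exact ⟨v, Q v, hv, rfl, StemLeTwo.of_equiv K.rootEquiv
        (ih (n - 1) (by omega) _ Q' B' K.space' (by rw [Fintype.card_fin]; omega) (by omega)
          (hq.imp (fun h9 => by omega) id))⟩

/-- Stem extensions of `Ω` have a kernel of order at most two. -/
theorem stemLeTwo_omega [Fintype F] (C : Space Q B) (h2 : (2 : F) ≠ 0) (h7 : 7 ≤ Fintype.card ι)
    (hq : 9 ≤ Fintype.card ι ∨ 4 ≤ Fintype.card F) : StemLeTwo ↥(Cfsg.Omega F Q) :=
  (stemLeTwo_root h2 _ ι Q B C rfl h7 hq).of_equiv (omegaEquiv C (by omega)).symm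

end Cfsg.Lib.OrthMult
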