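import Cfsg.Agent.Lib.OrthMult.Clifford
import Cfsg.Agent.Lib.Linear.OrthCenter
import Mathlib.GroupTheory.SpecificGroups.KleinFour

/-!
# The multiplier of `PΩ` in odd characteristic

The double cover has no stem extensions, so the multiplier is the kernel of its map onto `PΩ`.
-/

set_option autoImplicit false

namespace Cfsg.Lib.OrthMult

open Module
open Cfsg.Lib.Linear.Orth
open scoped Matrix commutatorElement

universe u w

/-- A perfect group without stem extensions gives the multiplier of its central quotients. -/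
theorem hasSchur_quotient {S G : Type u} [Group S] [Group G] [Finite S] (hS : commutator S = ⊤)
    (hM : ∀ (Γ : Type u) [Group Γ] [Finite Γ] (σ : Γ →* S), Cfsg.IsStemExtension σ → σ.ker = ⊥)
    (θ : S →* G) (hθ : Function.Surjective θ) (hk : θ.ker ≤ Subgroup.center S) {A : Type w} [CommGroup A]
    (e : θ.ker ≃* A) : Cfsg.HasSchurMultiplier G A := by
  refine ⟨⟨S, inferInstance, inferInstance, θ, ⟨hθ, hk, hS ▸ le_top⟩, ⟨e⟩⟩, fun Γ _ _ σ hσ => ?_⟩
  obtain ⟨τ, hτ, hτθ⟩ := Cfsg.Lib.SpMult.lift_of_trivial hS hM θ hθ σ hσ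
  let ρ : θ.ker →* σ.ker := (τ.comp θ.ker.subtype).codRestrict σ.ker fun y => by
    show σ (τ y) = 1
    rw [hτθ]; exact y.2
  refine ⟨ρ.comp e.symm.toMonoidHom, fun x => ?_⟩
  obtain ⟨s, hs⟩ := hτ x.1
  refine ⟨e ⟨s, by rw [MonoidHom.mem_ker, ← hτθ, hs]; exact x.2⟩, Subtype.ext ?_⟩
  show τ (e.symm (e _)).1 = x.1
  rw [e.symm_apply_apply]
  exact hs

variable {ι : Type} [Fintype ι] [DecidableEq ι] {F : Type u} [Field F] [Fintype F]
  {Q : (ι → F) → F} {B : LinearMap.BilinForm F (ι → F)}

section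

variable (C : Space Q B) (h2 : (2 : F) ≠ 0) (h7 : 7 ≤ Fintype.card ι)
  (hq : StemLeTwo ↥(Cfsg.Omega F Q))

include C h2 h7 hq

theorem card_dbl_ker : Nat.card (dblProj C).ker = 2 := by
  haveI := finite_dbl C h2 (by omega)
  haveI := cl_nontrivial C h2
  obtain ⟨hs, -⟩ := dblProj_stem C h2 (by omega) (omega_commutator C (Or.inl h7))
  refine le_antisymm (hq _ _ hs) ?_
  obtain ⟨p, hp, hp1, hp2⟩ := exists_neg_one C h2 h7
  haveI : Nontrivial (dblProj C).ker := ⟨⟨⟨⟨p, hp⟩, hp2⟩, 1, fun h => by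
    have h1 : (p.1.1 : CliffordAlgebra (formOf C)) = 1 := congrArg
      (fun x : (dblProj C).ker => (((x : Dbl C) : cover C).1.1 : CliffordAlgebra (formOf C))) h
    rw [hp1, ← map_one (algebraMap F (CliffordAlgebra (formOf C))), ← map_neg] at h1
    have h3 := (algebraMap F (CliffordAlgebra (formOf C))).injective h1
    exact h2 (by linear_combination -h3)⟩⟩
  exact Finite.one_lt_card

theorem dbl_no_stem (Γ : Type u) [Group Γ] [Finite Γ] (τ : Γ →* Dbl C) (hτ : Cfsg.IsStemExtension τ) :
    τ.ker = ⊥ := by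
  classical
  haveI := finite_dbl C h2 (by omega)
  obtain ⟨hs, hp⟩ := dblProj_stem C h2 (by omega) (omega_commutator C (Or.inl h7))
  have hperf := Cfsg.Lib.Chev.stem_perfect hτ hp
  have hst : Cfsg.IsStemExtension ((dblProj C).comp τ) := ⟨hs.1.comp hτ.1, fun x hx =>
    Cfsg.Lib.Chev.central_of_over_central τ hτ.1 hτ.2.1 hp (hs.2.1 hx), hperf ▸ le_top⟩
  have hle := hq Γ _ hst
  have h2' := card_dbl_ker C h2 h7 hq
  rw [eq_bot_iff]
  intro k hk
  by_contra hk1
  rw [Subgroup.mem_bot] at hk1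
  obtain ⟨⟨d, hd⟩, hd1⟩ : ∃ d : (dblProj C).ker, d ≠ 1 := by
    haveI : Nontrivial (dblProj C).ker := Finite.one_lt_card_iff_nontrivial.1 (by omega)
    exact exists_ne 1
  obtain ⟨z, hz⟩ := hτ.1 d
  have h3 : ({1, k, z} : Finset Γ).card ≤ Nat.card ((dblProj C).comp τ).ker := by
    rw [← Nat.card_eq_finsetCard]
    refine Nat.card_le_card_of_injective (fun x => ⟨x.1, ?_⟩) fun a b e => Subtype.ext (congrArg Subtype.val e :)
    have hx := x.2
    simp only [Finset.mem_insert, Finset.mem_singleton] at hx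
    rcases hx with h | h | h <;> rw [h, MonoidHom.mem_ker, MonoidHom.comp_apply]
    · rw [map_one, map_one]
    · rw [MonoidHom.mem_ker.1 hk, map_one]
    · rw [hz]; exact hd
  have hzk : k ≠ z := fun h => hd1 (Subtype.ext (by
    show d = 1
    rw [← hz, ← h, MonoidHom.mem_ker.1 hk]))
  have hz1 : (1 : Γ) ≠ z := fun h => hd1 (Subtype.ext (by
    show d = 1
    rw [← hz, ← h, map_one]))
  rw [Finset.card_insert_of_notMem (by simp [hz1, Ne.symm hk1]), Finset.card_pair hzk] at h3
  omega

/-- The map of the double cover onto `PΩ`. -/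
def psiProj : Dbl C →* Cfsg.POmega F Q :=
  (QuotientGroup.mk' (Subgroup.center ↥(Cfsg.Omega F Q))).comp (dblProj C)

theorem psiProj_facts : Function.Surjective (psiProj C) ∧
    (psiProj C).ker ≤ Subgroup.center (Dbl C) := by
  obtain ⟨hs, hp⟩ := dblProj_stem C h2 (by omega) (omega_commutator C (Or.inl h7))
  refine ⟨(QuotientGroup.mk'_surjective _).comp hs.1, fun x hx => ?_⟩
  exact Cfsg.Lib.Chev.central_of_over_central (dblProj C) hs.1 hs.2.1 (omega_commutator C (Or.inl h7))
    ((QuotientGroup.eq_one_iff _).1 hx)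

theorem hasSchur_pomega {A : Type w} [CommGroup A] (e : (psiProj C).ker ≃* A) :
    Cfsg.HasSchurMultiplier (Cfsg.POmega F Q) A := by
  haveI := finite_dbl C h2 (by omega)
  obtain ⟨-, hp⟩ := dblProj_stem C h2 (by omega) (omega_commutator C (Or.inl h7))
  obtain ⟨h1, h3⟩ := psiProj_facts C h2 h7 hq
  exact hasSchur_quotient hp (fun Γ _ _ τ hτ => dbl_no_stem C h2 h7 hq Γ τ hτ) _ h1 h3 e

theorem hasCyclic_pomega (hc : IsCyclic (psiProj C).ker) {k : ℕ}
    (hk : Nat.card (psiProj C).ker = k) : Cfsg.HasCyclicSchurMultiplier (Cfsg.POmega F Q) k := by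
  subst hk
  exact hasSchur_pomega C h2 h7 hq (zmodCyclicMulEquiv hc).symm

/-- Without `-1` the multiplier has order two. -/
theorem multiplier_two
    (hneg : ¬ ∃ g : ↥(isometryGroup F Q), g ∈ Cfsg.Omega F Q ∧ (g : GL ι F).val = -1) :
    Cfsg.HasCyclicSchurMultiplier (Cfsg.POmega F Q) 2 := by
  have hk : (psiProj C).ker = (dblProj C).ker := by
    ext x
    refine ⟨fun hx => ?_, fun hx => by rw [MonoidHom.mem_ker] at hx ⊢; simp [psiProj, hx]⟩
    rcases omega_center_pm C h7 ((QuotientGroup.eq_one_iff _).1 hx) with h | h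
    · exact Subtype.ext (Subtype.ext (Units.ext h))
    · exact absurd ⟨_, (dblProj C x).2, h⟩ hneg
  have h2' : Nat.card (psiProj C).ker = 2 := hk ▸ card_dbl_ker C h2 h7 hq
  haveI : Fact (Nat.Prime 2) := ⟨Nat.prime_two⟩
  exact hasCyclic_pomega C h2 h7 hq (isCyclic_of_prime_card h2') h2'

omit hq in
/-- An orthonormal family in a subspace, up to the last vector. -/
theorem exists_frame : ∀ (k : ℕ) (U : Submodule F (ι → F)), NDeg B U → finrank F U = k + 1 →
    ∃ e : Fin (k + 1) → ι → F, (∀ i, e i ∈ U) ∧ (∀ i j, i ≠ j → B (e i) (e j) = 0) ∧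
      (∀ i, i.1 < k → Q (e i) = 1) ∧ Q (e (Fin.last k)) ≠ 0 := by
  intro k
  induction k with
  | zero =>
    intro U hU hd
    obtain ⟨v, hv, hQv⟩ := exists_nonsing C hU (fun h => by rw [h, finrank_bot] at hd; omega)
    exact ⟨fun _ => v, fun _ => hv, fun i j hij => absurd (Fin.ext (by omega)) hij,
      fun i hi => absurd hi (by omega), hQv⟩
  | succ k ih =>
    intro U hU hd
    obtain ⟨v, hv, hQv⟩ := exists_value_ndeg C hU (by omega) one_ne_zero
    set U' := U ⊓ LinearMap.ker (B v) with hU'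
    have hvv : B v v = 2 := by rw [C.self, hQv, mul_one]
    have hproj : ∀ y ∈ U, y - (B v y / 2) • v ∈ U' := fun y hy =>
      ⟨U.sub_mem hy (U.smul_mem _ hv), LinearMap.mem_ker.2 (by
        rw [map_sub, map_smul, hvv, smul_eq_mul, div_mul_cancel₀ _ h2, sub_self])⟩
    have hn : NDeg B U' := fun x hx hxy => hU x hx.1 fun y hy => by
      have := hxy _ (hproj y hy)
      rwa [map_sub, map_smul, C.symm x v, LinearMap.mem_ker.1 hx.2, smul_zero, sub_zero] at this
    have hd' : finrank F U' = k + 1 := by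
      have h1 := Submodule.finrank_sup_add_finrank_inf_eq U (LinearMap.ker (B v))
      have h3 : U ⊔ LinearMap.ker (B v) = ⊤ := eq_top_iff.2 fun y _ => by
        rw [show y = (B v y / 2) • v + (y - (B v y / 2) • v) by abel]
        exact Submodule.add_mem_sup (U.smul_mem _ hv) (LinearMap.mem_ker.2 (by
          rw [map_sub, map_smul, hvv, smul_eq_mul, div_mul_cancel₀ _ h2, sub_self]))
      have h4 := LinearMap.finrank_range_add_finrank_ker (B v)
      have h5 : LinearMap.range (B v) = ⊤ := LinearMap.range_eq_top.2 fun c =>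
        ⟨(c / 2) • v, by rw [map_smul, hvv, smul_eq_mul, div_mul_cancel₀ _ h2]⟩
      rw [h5, finrank_top, Module.finrank_self] at h4
      rw [h3, finrank_top, hd, ← hU'] at h1
      omega
    obtain ⟨e, he, ho, h1, hl⟩ := ih U' hn hd'
    refine ⟨Fin.cons v e, fun i => ?_, fun i j hij => ?_, fun i hi => ?_, ?_⟩
    · obtain rfl | ⟨i, rfl⟩ := Fin.eq_zero_or_eq_succ i
      · simpa using hv
      · simpa using (he i).1
    · obtain rfl | ⟨i, rfl⟩ := Fin.eq_zero_or_eq_succ i
      · obtain rfl | ⟨j, rfl⟩ := Fin.eq_zero_or_eq_succ j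
        · exact absurd rfl hij
        · simpa using LinearMap.mem_ker.1 (he j).2
      · obtain rfl | ⟨j, rfl⟩ := Fin.eq_zero_or_eq_succ j
        · simpa [C.symm (e i) v] using LinearMap.mem_ker.1 (he i).2
        · simpa using ho i j fun h => hij (by rw [h])
    · obtain rfl | ⟨i, rfl⟩ := Fin.eq_zero_or_eq_succ i
      · simpa using hQv
      · simpa using h1 i (by simpa using hi)
    · rw [show Fin.last (k + 1) = Fin.succ (Fin.last k) from rfl, Fin.cons_succ]
      exact hl

omit hq in
/-- An orthonormal basis when `-1` lies in `Ω`. -/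
theorem exists_orthonormal (l : ℕ) (hl : Fintype.card ι = 2 * l)
    (hneg : ∃ g : ↥(isometryGroup F Q), g ∈ Cfsg.Omega F Q ∧ (g : GL ι F).val = -1) :
    ∃ e : Fin (2 * l) → ι → F, (∀ i, Q (e i) = 1) ∧ ∀ i j, i ≠ j → B (e i) (e j) = 0 := by
  classical
  obtain ⟨k, hk⟩ : ∃ k, 2 * l = k + 1 := ⟨2 * l - 1, by omega⟩
  obtain ⟨e, -, ho, h1, hlast⟩ := exists_frame C h2 h7 k ⊤ C.ndeg_top
    (by rw [finrank_top, finrank_fintype_fun_eq_card]; omega)
  have hne : ∀ i, Q (e i) ≠ 0 := fun i => by
    by_cases hi : i.1 < k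
    · rw [h1 i hi]; exact one_ne_zero
    · rwa [show i = Fin.last k from Fin.ext (by have := i.2; simp only [Fin.val_last]; omega)]
  have hp := (neg_one_mem_omega_iff C h2 ⟨l, by omega⟩ (by omega) e
    (by rw [Fintype.card_fin]; omega) hne ho).1 hneg
  have hsq : IsSquare (Q (e (Fin.last k))) := by
    by_contra hns
    rw [Fin.prod_univ_castSucc, if_neg hns, mul_one,
      Finset.prod_congr rfl (fun (i : Fin k) _ => if_pos (by
        rw [h1 i.castSucc (by simp)]; exact IsSquare.one)), Finset.prod_const, Finset.card_univ,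
      Fintype.card_fin, Odd.neg_one_pow ⟨l - 1, by omega⟩] at hp
    exact absurd hp (by decide)
  obtain ⟨r, hr⟩ := hsq
  have hr0 : r ≠ 0 := fun h => hlast (by rw [hr, h, zero_mul])
  let e' : Fin (2 * l) → ι → F := fun i =>
    if (Fin.cast hk i).1 < k then e (Fin.cast hk i) else r⁻¹ • e (Fin.cast hk i)
  refine ⟨e', fun i => ?_, fun i j hij => ?_⟩
  · by_cases hi : (Fin.cast hk i).1 < k
    · simp only [e', if_pos hi, h1 _ hi]
    · have hil : Fin.cast hk i = Fin.last k := Fin.ext (by
        have := (Fin.cast hk i).2; simp only [Fin.val_last]; omega)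
      simp only [e', if_neg hi, C.smul, hil, hr]
      field_simp
  · have := ho _ _ (fun h => hij (Fin.cast_injective hk h))
    simp only [e']
    split_ifs <;> simp [this]

/-- With `-1`, the kernel has order four and an element squaring to `(-1)^l`. -/
theorem psi_ker_four (l : ℕ) (hl : Fintype.card ι = 2 * l)
    (hneg : ∃ g : ↥(isometryGroup F Q), g ∈ Cfsg.Omega F Q ∧ (g : GL ι F).val = -1) :
    Nat.card (psiProj C).ker = 4 ∧ ∃ x : Dbl C, x ∈ (psiProj C).ker ∧
      x ∉ (dblProj C).ker ∧ (((x * x : Dbl C) : cover C).1.1 : CliffordAlgebra (formOf C)) = (-1) ^ l := by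
  haveI := finite_dbl C h2 (by omega)
  obtain ⟨e, he1, heo⟩ := exists_orthonormal C h2 h7 l hl hneg
  have hne : ∀ i, Q (e i) ≠ 0 := fun i => by rw [he1]; exact one_ne_zero
  have key : ∀ k ≤ l, ∃ x : cover C, x ∈ Dbl C ∧
      (∀ i : Fin (2 * l), ((x.1.2 : ↥(isometryGroup F Q)) : GL ι F).val *ᵥ e i =
        if i.1 < 2 * k then -e i else e i) ∧
      (x.1.1 : CliffordAlgebra (formOf C)) * (x.1.1 : CliffordAlgebra (formOf C)) = (-1) ^ k := by
    intro k
    induction k with
    | zero => exact fun _ => ⟨1, one_mem _, fun i => by simp, by simp⟩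
    | succ k ih =>
      intro hk
      obtain ⟨x, hx, hxe, hxx⟩ := ih (by omega)
      set p : Fin (2 * l) := ⟨2 * k, by omega⟩ with hp
      set r : Fin (2 * l) := ⟨2 * k + 1, by omega⟩ with hr
      have hpr : p ≠ r := fun h => by simp [p, r, Fin.ext_iff] at h
      obtain ⟨y, hy, hyu, hyg⟩ := exists_pair_dbl C h2 h7 (he1 p) (he1 r) (heo p r hpr)
      refine ⟨x * y, mul_mem hx hy, fun i => ?_, ?_⟩
      · show (((x.1.2 : ↥(isometryGroup F Q)) : GL ι F) * ((y.1.2 : ↥(isometryGroup F Q)) : GL ι F)).val *ᵥ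
          e i = _
        rw [mul_act, hyg, mul_act]
        by_cases hir : i = r
        · subst hir
          rw [rGL_self C (hne r), Matrix.mulVec_neg, rGL_fix C (hne p) (heo p r hpr), Matrix.mulVec_neg, hxe,
            if_neg (by simp [r]), if_pos (by simp [r]; omega)]
        rw [rGL_fix C (hne r) (heo r i (Ne.symm hir))]
        by_cases hip : i = p
        · subst hip
          rw [rGL_self C (hne p), Matrix.mulVec_neg, hxe, if_neg (by simp [p]), if_pos (by simp [p])]
        rw [rGL_fix C (hne p) (heo p i (Ne.symm hip)), hxe]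
        have h1 : i.1 ≠ 2 * k := fun h => hip (Fin.ext h)
        have h3 : i.1 ≠ 2 * k + 1 := fun h => hir (Fin.ext h)
        by_cases h4 : i.1 < 2 * k
        · rw [if_pos h4, if_pos (by omega)]
        · rw [if_neg h4, if_neg (by omega)]
      · show (x.1.1 : CliffordAlgebra (formOf C)) * y.1.1 * ((x.1.1 : CliffordAlgebra (formOf C)) * y.1.1) = _
        have hcomm : ∀ i : Fin (2 * l), 2 * k ≤ i.1 → Commute (x.1.1 : CliffordAlgebra (formOf C))
            (vec C (e i)) := fun i hi => by
          show _ = _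
          rw [x.2 (e i), hxe, if_neg (by omega)]
        have hcy : Commute (x.1.1 : CliffordAlgebra (formOf C)) (y.1.1 : CliffordAlgebra (formOf C)) := by
          rw [hyu]; exact (hcomm p (by simp [p])).mul_right (hcomm r (by simp [r]))
        rw [mul_assoc, ← mul_assoc (y.1.1 : CliffordAlgebra (formOf C)), ← hcy.eq,
          mul_assoc (x.1.1 : CliffordAlgebra (formOf C)), ← mul_assoc, hxx, hyu, pow_succ]
        congr 1
        rw [mul_assoc, ← mul_assoc (vec C (e r)), vec_swap C (heo r p (Ne.symm hpr)), neg_mul, mul_neg,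
          mul_assoc, vec_sq, he1, map_one, mul_one, vec_sq, he1, map_one]
  obtain ⟨x, hx, hxe, hxx⟩ := key l le_rfl
  obtain ⟨g, hg, hgv⟩ := hneg
  have hli : LinearIndependent F e := Fintype.linearIndependent_iff.2 fun c hc i => by
    have h1 := congrArg (B (e i)) hc
    rw [map_sum, map_zero, Finset.sum_eq_single i (fun j _ hj => by
      rw [map_smul, heo i j (Ne.symm hj), smul_zero]) (fun h => absurd (Finset.mem_univ i) h),
      map_smul, C.self, smul_eq_mul] at h1
    exact (mul_eq_zero.mp h1).resolve_right (mul_ne_zero h2 (hne i))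
  haveI : Nonempty ι := Fintype.card_pos_iff.1 (by omega)
  have htop := hli.span_eq_top_of_card_eq_finrank' (by rw [Fintype.card_fin, finrank_fintype_fun_eq_card, hl])
  have hxneg : ((x.1.2 : ↥(isometryGroup F Q)) : GL ι F).val = -1 := by
    refine mat_ext fun v => ?_
    have hlin : Matrix.mulVecLin ((x.1.2 : ↥(isometryGroup F Q)) : GL ι F).val =
        Matrix.mulVecLin (-1 : Matrix ι ι F) :=
      LinearMap.ext_on_range htop fun i => by simp [hxe i, i.2, Matrix.neg_mulVec]
    exact LinearMap.congr_fun hlin v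
  have hcent : x.1.2 ∈ Subgroup.center ↥(Cfsg.Omega F Q) := Subgroup.mem_center_iff.2 fun y =>
    Subtype.ext (Subtype.ext (Units.ext (by
      show ((y : ↥(isometryGroup F Q)) : GL ι F).val * ((x.1.2 : ↥(isometryGroup F Q)) : GL ι F).val =
        ((x.1.2 : ↥(isometryGroup F Q)) : GL ι F).val * ((y : ↥(isometryGroup F Q)) : GL ι F).val
      rw [hxneg]; simp)))
  have hX1 : (⟨x, hx⟩ : Dbl C) ∈ (psiProj C).ker := (QuotientGroup.eq_one_iff _).2 hcent
  have hX2 : (⟨x, hx⟩ : Dbl C) ∉ (dblProj C).ker := fun h => by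
    have h1 : x.1.2 = 1 := h
    rw [h1] at hxneg
    obtain ⟨i⟩ := (inferInstance : Nonempty ι)
    have h3 := congrFun (congrFun hxneg i) i
    simp at h3
    exact h2 (by linear_combination h3)
  refine ⟨?_, ⟨x, hx⟩, hX1, hX2, hxx⟩
  have hlt : (dblProj C).ker ≤ (psiProj C).ker := fun y hy => by
    rw [MonoidHom.mem_ker] at hy ⊢; simp [psiProj, hy]
  have hidx : ((dblProj C).ker.subgroupOf (psiProj C).ker).index = 2 := by
    rw [Subgroup.index_eq_two_iff]
    refine ⟨⟨⟨x, hx⟩, hX1⟩, fun b => ?_⟩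
    have hb : dblProj C (b : Dbl C) ∈ Subgroup.center _ := (QuotientGroup.eq_one_iff _).1 b.2
    have hval : ∀ c : Dbl C, ((dblProj C c : ↥(isometryGroup F Q)) : GL ι F).val = 1 → c ∈ (dblProj C).ker :=
      fun c hc => Subtype.ext (Subtype.ext (Units.ext hc))
    rcases omega_center_pm C h7 hb with h | h
    · refine Or.inr ⟨hval _ h, fun h' => hX2 ?_⟩
      have := (Subgroup.mul_mem_cancel_left (dblProj C).ker (hval _ h)).1 h'
      exact this
    · refine Or.inl ⟨hval _ ?_, fun h' => ?_⟩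
      · show (((dblProj C ((b : Dbl C) * ⟨x, hx⟩)) : ↥(isometryGroup F Q)) : GL ι F).val = 1
        rw [map_mul]
        show ((dblProj C (b : Dbl C) : ↥(isometryGroup F Q)) : GL ι F).val *
          ((x.1.2 : ↥(isometryGroup F Q)) : GL ι F).val = 1
        rw [h, hxneg]; simp
      · have h1 : dblProj C (b : Dbl C) = 1 := h'
        rw [h1] at h
        obtain ⟨i⟩ := (inferInstance : Nonempty ι)
        have h3 := congrFun (congrFun h i) i
        simp at h3
        exact h2 (by linear_combination h3)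
  have h1 := ((dblProj C).ker.subgroupOf (psiProj C).ker).card_mul_index
  rw [hidx, Nat.card_congr (Subgroup.subgroupOfEquivOfLe hlt).toEquiv, card_dbl_ker C h2 h7 hq] at h1
  omega

/-- In even dimension with `-1` and odd half dimension the multiplier is cyclic of order four. -/
theorem multiplier_four (l : ℕ) (hl : Fintype.card ι = 2 * l) (ho : Odd l)
    (hneg : ∃ g : ↥(isometryGroup F Q), g ∈ Cfsg.Omega F Q ∧ (g : GL ι F).val = -1) :
    Cfsg.HasCyclicSchurMultiplier (Cfsg.POmega F Q) 4 := by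
  haveI := finite_dbl C h2 (by omega)
  haveI := cl_nontrivial C h2
  obtain ⟨h4, x, hx, hxd, hxx⟩ := psi_ker_four C h2 h7 hq l hl hneg
  rw [ho.neg_one_pow] at hxx
  refine hasCyclic_pomega C h2 h7 hq ?_ h4
  refine isCyclic_of_orderOf_eq_card (⟨x, hx⟩ : (psiProj C).ker) ?_
  rw [h4]
  have hxx1 : x * x ≠ 1 := fun h => by
    rw [h] at hxx
    have h1 : algebraMap F (CliffordAlgebra (formOf C)) 1 = algebraMap F _ (-1) := by
      rw [map_neg, map_one]; simpa using hxx
    have h3 := (algebraMap F (CliffordAlgebra (formOf C))).injective h1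
    exact h2 (by linear_combination h3)
  have hd : orderOf (⟨x, hx⟩ : (psiProj C).ker) ∣ 4 := h4 ▸ orderOf_dvd_natCard _
  rw [Subgroup.orderOf_mk] at hd ⊢
  obtain ⟨i, hi, hix⟩ := (Nat.dvd_prime_pow Nat.prime_two).1 (show orderOf x ∣ 2 ^ 2 by simpa using hd)
  have h2' : i ≠ 0 ∧ i ≠ 1 := by
    constructor <;> rintro rfl <;> apply hxx1 <;> rw [← sq]
    · have hx1 : x = 1 := orderOf_eq_one_iff.1 (by rw [hix]; norm_num)
      rw [hx1, one_pow]
    · exact orderOf_dvd_iff_pow_eq_one.1 (by rw [hix]; norm_num)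
  rw [hix, show i = 2 by omega]
  norm_num

/-- In even dimension with `-1` and even half dimension the multiplier is a four-group. -/
theorem multiplier_klein (l : ℕ) (hl : Fintype.card ι = 2 * l) (he : Even l)
    (hneg : ∃ g : ↥(isometryGroup F Q), g ∈ Cfsg.Omega F Q ∧ (g : GL ι F).val = -1) :
    Cfsg.HasSchurMultiplier (Cfsg.POmega F Q) (Multiplicative (ZMod 2 × ZMod 2)) := by
  haveI := finite_dbl C h2 (by omega)
  haveI := cl_nontrivial C h2
  obtain ⟨h4, x, hx, hxd, hxx⟩ := psi_ker_four C h2 h7 hq l hl hneg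
  rw [he.neg_one_pow] at hxx
  have hxc := (psiProj_facts C h2 h7 hq).2 hx
  have hxx2 : x * x = 1 := by
    have h1 : dblProj C (x * x) = 1 := by
      rcases omega_center_pm C h7 ((QuotientGroup.eq_one_iff _).1 hx) with h | h
      · exact absurd (Subtype.ext (Subtype.ext (Units.ext h)) : dblProj C x = 1) hxd
      · rw [map_mul]
        refine Subtype.ext (Subtype.ext (Units.ext ?_))
        show ((dblProj C x : ↥(isometryGroup F Q)) : GL ι F).val *
          ((dblProj C x : ↥(isometryGroup F Q)) : GL ι F).val = 1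
        rw [h]; simp
    exact Subtype.ext (Subtype.ext (Prod.ext (Units.ext hxx) h1))
  have hk2 : ∀ k : Dbl C, k ∈ (dblProj C).ker → k * k = 1 := fun k hk => by
    have h1 : orderOf (⟨k, hk⟩ : (dblProj C).ker) ∣ 2 :=
      card_dbl_ker C h2 h7 hq ▸ orderOf_dvd_natCard _
    have := congrArg Subtype.val (orderOf_dvd_iff_pow_eq_one.1 h1)
    simpa [sq] using this
  have hall : ∀ y : (psiProj C).ker, y * y = 1 := fun y => by
    refine Subtype.ext ?_
    show (y : Dbl C) * y = 1
    by_cases hy : (y : Dbl C) ∈ (dblProj C).ker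
    · exact hk2 _ hy
    · have hk : (y : Dbl C) * x ∈ (dblProj C).ker := by
        refine Subtype.ext (Subtype.ext (Units.ext ?_))
        rcases omega_center_pm C h7 ((QuotientGroup.eq_one_iff _).1 y.2) with h | h
        · exact absurd (Subtype.ext (Subtype.ext (Units.ext h))) hy
        · rcases omega_center_pm C h7 ((QuotientGroup.eq_one_iff _).1 hx) with h' | h'
          · exact absurd (Subtype.ext (Subtype.ext (Units.ext h'))) hxd
          · rw [map_mul]
            show ((dblProj C (y : Dbl C) : ↥(isometryGroup F Q)) : GL ι F).val *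
              ((dblProj C x : ↥(isometryGroup F Q)) : GL ι F).val = 1
            rw [h, h']; simp
      have hcx : (x : Dbl C) * y = y * x := (Subgroup.mem_center_iff.1 hxc (y : Dbl C)).symm
      have := hk2 _ hk
      rw [mul_assoc, ← mul_assoc x, hcx, mul_assoc (y : Dbl C) x x, hxx2, mul_one] at this
      exact this
  haveI : Nontrivial (psiProj C).ker := Finite.one_lt_card_iff_nontrivial.1 (by omega)
  haveI : IsKleinFour (psiProj C).ker := by
    refine ⟨h4, (Monoid.exponent_eq_prime_iff Nat.prime_two).2 fun y hy => ?_⟩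
    exact orderOf_eq_prime (by rw [sq]; exact hall y) hy
  obtain ⟨e⟩ := IsKleinFour.nonempty_mulEquiv (G₁ := (psiProj C).ker)
    (G₂ := Multiplicative (ZMod 2 × ZMod 2))
  exact hasSchur_pomega C h2 h7 hq e

end

end Cfsg.Lib.OrthMult
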