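import Cfsg.Agent.Lib.Concrete.StemTools
import Cfsg.Agent.Lib.OrthMult.Base

/-!
# Central elements of a derived group and subgroups of coprime index
-/

set_option autoImplicit false

namespace Cfsg.Lib.OrthMult

variable {Γ G : Type} [Group Γ] [Group G] [Finite Γ]

/-- A central element of the derived group lies in the derived preimage of a subgroup of coprime index. -/
theorem mem_comm_of_index (σ : Γ →* G) (hs : Function.Surjective σ) (hc : σ.ker ≤ Subgroup.center Γ)
    (H : Subgroup G) {k : Γ} (hk : k ∈ σ.ker) (hk' : k ∈ commutator Γ)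
    (hcop : Nat.Coprime (orderOf k) H.index) : k ∈ ⁅H.comap σ, H.comap σ⁆ := by
  have hkH : k ∈ H.comap σ := by
    show σ k ∈ H
    rw [MonoidHom.mem_ker.1 hk]; exact H.one_mem
  have h1 : Abelianization.of (⟨k, hkH⟩ : H.comap σ) ^ (H.comap σ).index = 1 :=
    Cfsg.Lib.Concrete.center_pow_index_eq_one (H.comap σ) Abelianization.of (hc hk) hk' hkH
  have h2 : Abelianization.of (⟨k, hkH⟩ : H.comap σ) ^ orderOf k = 1 := by
    rw [← map_pow, show (⟨k, hkH⟩ : H.comap σ) ^ orderOf k = 1 from Subtype.ext (pow_orderOf_eq_one k), map_one]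
  have h3 := pow_gcd_eq_one.2 ⟨h2, h1⟩
  rw [show Nat.gcd (orderOf k) (H.comap σ).index = 1 by
    rw [Subgroup.index_comap_of_surjective _ hs]; exact hcop, pow_one, ← MonoidHom.mem_ker,
    Abelianization.ker_of] at h3
  have h4 := Subgroup.mem_map_of_mem (H.comap σ).subtype h3
  rwa [commutator_def, Subgroup.map_commutator, ← MonoidHom.range_eq_map, Subgroup.range_subtype] at h4

/-- A perfect subgroup of coprime index bounds the kernel. -/
theorem card_ker_le_of_perfect (σ : Γ →* G) (hσ : Cfsg.IsStemExtension σ) (H : Subgroup G)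
    (hperf : ⁅H, H⁆ = H) (hle : StemLeTwo ↥H)
    (hcop : ∀ k ∈ σ.ker, Nat.Coprime (orderOf k) H.index) : Nat.card σ.ker ≤ 2 := by
  obtain ⟨hs, hc, hd⟩ := hσ
  set C : Subgroup Γ := ⁅H.comap σ, H.comap σ⁆ with hC
  have hmap : C.map σ = H := by
    rw [hC, Subgroup.map_commutator, Subgroup.map_comap_eq_self_of_surjective hs, hperf]
  let τ : C →* H := (σ.comp C.subtype).codRestrict H fun x => hmap ▸ Subgroup.mem_map_of_mem σ x.2
  have hτs : Function.Surjective τ := fun y => by
    obtain ⟨x, hx, hxy⟩ : (y : G) ∈ C.map σ := hmap.symm ▸ y.2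
    exact ⟨⟨x, hx⟩, Subtype.ext hxy⟩
  have hτc : τ.ker ≤ Subgroup.center C := fun x hx => Subgroup.mem_center_iff.2 fun y =>
    Subtype.ext (Subgroup.mem_center_iff.1 (hc (show (x : Γ) ∈ σ.ker from congrArg Subtype.val hx)) y.1)
  have hCp : commutator C = ⊤ := by
    refine Subgroup.map_injective C.subtype_injective ?_
    rw [← MonoidHom.range_eq_map, Subgroup.range_subtype, commutator_def, Subgroup.map_commutator,
      ← MonoidHom.range_eq_map, Subgroup.range_subtype]
    refine le_antisymm (Subgroup.commutator_le_self _) ?_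
    conv_lhs => rw [hC]
    rw [Subgroup.commutator_le]
    intro a ha b hb
    obtain ⟨a', ha', ea⟩ : σ a ∈ C.map σ := hmap.symm ▸ ha
    obtain ⟨b', hb', eb⟩ : σ b ∈ C.map σ := hmap.symm ▸ hb
    have hca : a'⁻¹ * a ∈ Subgroup.center Γ :=
      hc (by rw [MonoidHom.mem_ker, map_mul, map_inv, ea, inv_mul_cancel])
    have hcb : b'⁻¹ * b ∈ Subgroup.center Γ :=
      hc (by rw [MonoidHom.mem_ker, map_mul, map_inv, eb, inv_mul_cancel])
    have hcomm := Cfsg.Lib.Chev.comm_mul_central (a := a') (b := b') hca hcb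
    rw [mul_inv_cancel_left, mul_inv_cancel_left] at hcomm
    rw [hcomm]
    exact Subgroup.commutator_mem_commutator ha' hb'
  refine le_trans (le_of_eq ?_) (hle C τ ⟨hτs, hτc, hCp ▸ le_top⟩)
  exact Nat.card_congr
    { toFun := fun k => ⟨⟨k.1, mem_comm_of_index σ hs hc H k.2 (hd k.2) (hcop k.1 k.2)⟩, Subtype.ext k.2⟩
      invFun := fun k => ⟨k.1.1, congrArg Subtype.val k.2⟩
      left_inv := fun k => rfl
      right_inv := fun k => rfl }

end Cfsg.Lib.OrthMult
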