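import Cfsg.Agent.Lib.OrthMult.Sub
import Cfsg.Agent.Lib.Linear.OrthStdBasis

/-!
# Common perpendicular vectors of a given norm
-/

set_option autoImplicit false

namespace Cfsg.Lib.OrthMult

open Module
open Cfsg.Lib.Linear.Orth
open scoped Matrix

variable {ι : Type} [Fintype ι] [DecidableEq ι] {F : Type*} [Field F]
  {Q : (ι → F) → F} {B : LinearMap.BilinForm F (ι → F)}

/-- A large non-degenerate piece of a perpendicular. -/
theorem exists_ndeg_perp (C : Space Q B) {S Z : Submodule F (ι → F)} (hZS : Z ≤ S) (hZ : NDeg B Z) :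
    ∃ P, P ≤ orth B S ∧ NDeg B P ∧
      Fintype.card ι + finrank F Z ≤ finrank F P + 2 * finrank F S := by
  set R := orth B S ⊓ S with hR
  obtain ⟨R', hR'⟩ := R.exists_isCompl
  refine ⟨orth B S ⊓ R', inf_le_left, fun x hx hxy => ?_, ?_⟩
  · have hxT : ∀ y ∈ orth B S, B x y = 0 := fun y hy => by
      obtain ⟨r, hr, r', hr', rfl⟩ := Submodule.mem_sup.1
        (hR'.sup_eq_top ▸ Submodule.mem_top : y ∈ R ⊔ R')
      have h1 : B x r = 0 := by rw [C.symm]; exact mem_orth.1 hx.1 r hr.2
      have h2 : r' ∈ orth B S := by simpa using Submodule.sub_mem _ hy hr.1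
      rw [map_add, h1, hxy r' ⟨h2, hr'⟩, add_zero]
    have hxS : x ∈ S := by
      by_contra hne
      obtain ⟨y, hy, hxy1⟩ := C.exists_perp hne
      rw [hxT y (mem_orth.2 hy)] at hxy1
      exact zero_ne_one hxy1
    have : x ∈ R ⊓ R' := ⟨⟨hx.1, hxS⟩, hx.2⟩
    rwa [hR'.inf_eq_bot, Submodule.mem_bot] at this
  · have h1 := Submodule.finrank_sup_add_finrank_inf_eq (orth B S) R'
    have h2 := Submodule.finrank_le (orth B S ⊔ R')
    have h3 := Submodule.finrank_add_eq_of_isCompl hR'
    have h4 := finrank_orth (B := B) S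
    have h5 : finrank F R + finrank F Z ≤ finrank F S := by
      have h6 := Submodule.finrank_sup_add_finrank_inf_eq R Z
      have h7 : R ⊓ Z = ⊥ := eq_bot_iff.2 fun x hx => (Submodule.mem_bot F).2
        (hZ x hx.2 fun y hy => by rw [C.symm]; exact mem_orth.1 hx.1.1 y (hZS hy))
      rw [h7, finrank_bot] at h6
      have h8 : finrank F (R ⊔ Z : Submodule F (ι → F)) ≤ finrank F S :=
        Submodule.finrank_mono (sup_le inf_le_right hZS)
      omega
    rw [finrank_fintype_fun_eq_card] at h2 h3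
    omega

theorem exists_value_ndeg [Fintype F] (C : Space Q B) {P : Submodule F (ι → F)} (hP : NDeg B P)
    (hd : 2 ≤ finrank F P) {c : F} (hc : c ≠ 0) : ∃ v ∈ P, Q v = c := by
  by_cases hs : ∃ e ∈ P, e ≠ 0 ∧ Q e = 0
  · obtain ⟨e, he, he0, hQe⟩ := hs
    obtain ⟨f, hf⟩ := exists_hyp C hP he he0 hQe
    exact ⟨c • e + f, P.add_mem (P.smul_mem _ he) hf.memF, by
      rw [C.add, C.smul, hQe, hf.singF, map_smul, LinearMap.smul_apply, hf.pair]; simp⟩
  · push Not at hs
    refine plane_value C hP (le_antisymm ?_ hd) hc fun w hw hQ => by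
      by_contra h0
      exact hs w hw h0 hQ
    by_contra h3
    obtain ⟨e, he, he0, hQe⟩ := Cfsg.Lib.Linear.Sing.exists_singular C.smul C.polar P (by omega)
    exact hs e he he0 hQe

/-- A norm `c` vector avoiding two values of a functional. -/
theorem exists_value_avoid [Fintype F] (C : Space Q B) (h2 : (2 : F) ≠ 0) (hq : 4 ≤ Fintype.card F)
    {P : Submodule F (ι → F)} (hP : NDeg B P) (hd : 3 ≤ finrank F P) (φ : (ι → F) →ₗ[F] F) {c : F}
    (hc : c ≠ 0) : ∃ v ∈ P, Q v = c ∧ φ v ^ 2 ≠ (2 * c) ^ 2 := by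
  classical
  set L := P ⊓ LinearMap.ker φ with hL
  have hLd : 2 ≤ finrank F L := by
    have h1 := Submodule.finrank_sup_add_finrank_inf_eq P (LinearMap.ker φ)
    have h2 := Submodule.finrank_le (P ⊔ LinearMap.ker φ)
    have h3 := LinearMap.finrank_range_add_finrank_ker φ
    have h4 := Submodule.finrank_le (LinearMap.range φ)
    rw [Module.finrank_self] at h4
    rw [← hL] at h1
    omega
  have hcc : (2 * c) ^ 2 ≠ 0 := pow_ne_zero _ (mul_ne_zero h2 hc)
  by_cases hs : ∃ e ∈ L, e ≠ 0 ∧ Q e = 0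
  · obtain ⟨e, he, he0, hQe⟩ := hs
    obtain ⟨f, hf⟩ := exists_hyp C hP he.1 he0 hQe
    have hφe : φ e = 0 := he.2
    have hval : ∀ t : F, t ≠ 0 → t • f + (c / t) • e ∈ P ∧ Q (t • f + (c / t) • e) = c ∧
        φ (t • f + (c / t) • e) = t * φ f := fun t ht =>
      ⟨P.add_mem (P.smul_mem _ hf.memF) (P.smul_mem _ he.1),
        by rw [C.smul_add, hf.singF, hQe, hf.pair' C]; field_simp; ring,
        by simp [hφe]⟩
    by_cases hφ : φ f = 0
    · obtain ⟨h1, h3, h4⟩ := hval 1 one_ne_zero
      exact ⟨_, h1, h3, by rw [h4, hφ]; simpa using hcc.symm⟩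
    · obtain ⟨t, ht⟩ : ∃ t : F, t ∉ ({0, 2 * c / φ f, -(2 * c / φ f)} : Finset F) := by
        by_contra! h
        have := (Finset.card_le_card (s := Finset.univ) fun x _ => h x).trans Finset.card_le_three
        rw [Finset.card_univ] at this
        omega
      simp only [Finset.mem_insert, Finset.mem_singleton, not_or] at ht
      obtain ⟨h1, h3, h4⟩ := hval t ht.1
      refine ⟨_, h1, h3, fun heq => ?_⟩
      rw [h4] at heq
      rcases sq_eq_sq_iff_eq_or_eq_neg.1 heq with h | h
      · exact ht.2.1 (by rw [← h]; field_simp)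
      · exact ht.2.2 (by rw [← neg_div, ← h]; field_simp)
  · push Not at hs
    have hani : ∀ w ∈ L, Q w = 0 → w = 0 := fun w hw hQ => by
      by_contra h0
      exact hs w hw h0 hQ
    have hLn : NDeg B L := fun x hx hxy => hani x hx (by
      have := hxy x hx
      rw [C.self] at this
      exact (mul_eq_zero.1 this).resolve_left h2)
    obtain ⟨v, hv, hQv⟩ := exists_value_ndeg C hLn hLd hc
    exact ⟨v, hv.1, hQv, by rw [(hv.2 : φ v = 0)]; simpa using hcc.symm⟩

section Spans

variable (C : Space Q B) (h2 : (2 : F) ≠ 0) {c : F} (hc : c ≠ 0)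

include C h2 hc

theorem ndeg_one {a : ι → F} (ha : Q a = c) : NDeg B (Submodule.span F {a}) := by
  intro x hx hxy
  obtain ⟨t, rfl⟩ := Submodule.mem_span_singleton.1 hx
  have := hxy a (Submodule.mem_span_singleton_self a)
  rw [map_smul, LinearMap.smul_apply, C.self, ha, smul_eq_mul, mul_eq_zero] at this
  rw [this.resolve_right (mul_ne_zero h2 hc), zero_smul]

theorem finrank_one {a : ι → F} (ha : Q a = c) : finrank F (Submodule.span F {a}) = 1 :=
  finrank_span_singleton fun h => hc (by rw [← ha, h, C.zero])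

theorem ndeg_two {a b : ι → F} (ha : Q a = c) (hb : Q b = c) (hab : B a b ^ 2 ≠ (2 * c) ^ 2) :
    NDeg B (Submodule.span F {a, b}) ∧ finrank F (Submodule.span F {a, b}) = 2 := by
  have hd : (2 * c) ^ 2 - B a b ^ 2 ≠ 0 := sub_ne_zero.2 (Ne.symm hab)
  have key : ∀ s t : F, B a (s • a + t • b) = 0 → B b (s • a + t • b) = 0 → s = 0 ∧ t = 0 := by
    intro s t e1 e2
    simp only [map_add, map_smul, C.self, ha, hb, C.symm b a, smul_eq_mul] at e1 e2
    constructor
    · refine (mul_eq_zero.1 (?_ : s * ((2 * c) ^ 2 - B a b ^ 2) = 0)).resolve_right hd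
      linear_combination (2 * c) * e1 - B a b * e2
    · refine (mul_eq_zero.1 (?_ : t * ((2 * c) ^ 2 - B a b ^ 2) = 0)).resolve_right hd
      linear_combination (2 * c) * e2 - B a b * e1
  refine ⟨fun x hx hxy => ?_, le_antisymm (finrank_span_pair_le a b) ?_⟩
  · obtain ⟨s, t, rfl⟩ := Submodule.mem_span_pair.1 hx
    obtain ⟨rfl, rfl⟩ := key s t (by rw [C.symm]; exact hxy a (Submodule.subset_span (by simp)))
      (by rw [C.symm]; exact hxy b (Submodule.subset_span (by simp)))
    simp
  · have hli : LinearIndependent F ![a, b] := LinearIndependent.pair_iff.2 fun s t e =>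
      key s t (by rw [e, map_zero]) (by rw [e, map_zero])
    have := finrank_span_eq_card hli
    rw [Matrix.range_cons, Matrix.range_cons, Matrix.range_empty, Set.union_empty,
      Set.singleton_union, Fintype.card_fin] at this
    rw [this]

theorem ndeg_three {a u v : ι → F} (ha : Q a = c) (hu : Q u = c) (hv : Q v = c) (hau : B a u = 0)
    (hav : B a v = 0) (huv : B u v ^ 2 ≠ (2 * c) ^ 2) :
    NDeg B (Submodule.span F {a, u, v}) ∧ finrank F (Submodule.span F {a, u, v}) = 3 := by
  obtain ⟨hn1, hd1⟩ := ndeg_two C h2 hc hu hv huv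
  have hperp : ∀ y ∈ Submodule.span F {u, v}, B a y = 0 := fun y hy => by
    obtain ⟨s, t, rfl⟩ := Submodule.mem_span_pair.1 hy
    simp [hau, hav]
  have haa : B a a ≠ 0 := by rw [C.self, ha]; exact mul_ne_zero h2 hc
  rw [Submodule.span_insert a {u, v}]
  refine ⟨fun x hx hxy => ?_, ?_⟩
  · obtain ⟨p, hp, y, hy, rfl⟩ := Submodule.mem_sup.1 hx
    obtain ⟨s, rfl⟩ := Submodule.mem_span_singleton.1 hp
    have h1 := hxy a (Submodule.mem_sup_left (Submodule.mem_span_singleton_self a))
    rw [C.symm, map_add, map_smul, hperp y hy, smul_eq_mul, add_zero, mul_eq_zero] at h1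
    obtain rfl := h1.resolve_right haa
    rw [zero_smul, zero_add] at hxy ⊢
    exact hn1 y hy fun z hz => hxy z (Submodule.mem_sup_right hz)
  · have h := Submodule.finrank_sup_add_finrank_inf_eq (Submodule.span F {a}) (Submodule.span F {u, v})
    have h0 : Submodule.span F {a} ⊓ Submodule.span F {u, v} = ⊥ := eq_bot_iff.2 fun x hx => by
      obtain ⟨s, rfl⟩ := Submodule.mem_span_singleton.1 hx.1
      have := hperp _ hx.2
      rw [map_smul, smul_eq_mul, mul_eq_zero] at this
      rw [this.resolve_right haa, zero_smul]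
      exact Submodule.zero_mem _
    rw [h0, finrank_bot, hd1, finrank_one C h2 hc ha] at h
    omega

end Spans

theorem finrank_span_four (a b x y : ι → F) :
    finrank F (Submodule.span F ({a, b, x, y} : Set (ι → F))) ≤ 4 := by
  classical
  have h := finrank_span_finset_le_card (R := F) ({a, b, x, y} : Finset (ι → F))
  simp only [Finset.coe_insert, Finset.coe_singleton] at h
  exact h.trans Finset.card_le_four

theorem finrank_span_three (a b x : ι → F) :
    finrank F (Submodule.span F ({a, b, x} : Set (ι → F))) ≤ 3 := by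
  classical
  have h := finrank_span_finset_le_card (R := F) ({a, b, x} : Finset (ι → F))
  simp only [Finset.coe_insert, Finset.coe_singleton] at h
  exact h.trans Finset.card_le_three

section Witness

variable [Fintype F] (C : Space Q B) (h2 : (2 : F) ≠ 0) {c : F} (hc : c ≠ 0)

include C h2 hc

/-- A vector of norm `c` perpendicular to three given ones. -/
theorem exists_common (h7 : 7 ≤ Fintype.card ι) {a : ι → F} (ha : Q a = c) (b x : ι → F) :
    ∃ w, Q w = c ∧ B w a = 0 ∧ B w b = 0 ∧ B w x = 0 := by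
  obtain ⟨P, hP, hPn, hdim⟩ := exists_ndeg_perp C (S := Submodule.span F {a, b, x})
    (Submodule.span_mono (by simp)) (ndeg_one C h2 hc ha)
  have h3 := finrank_span_three a b x
  have h1 := finrank_one C h2 hc ha
  obtain ⟨w, hw, hQw⟩ := exists_value_ndeg C hPn (by omega) hc
  have := mem_orth_span.1 (hP hw)
  exact ⟨w, hQw, by rw [C.symm]; exact this a (by simp), by rw [C.symm]; exact this b (by simp),
    by rw [C.symm]; exact this x (by simp)⟩

/-- A common perpendicular of norm `c`, given a non-degenerate part. -/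
theorem exists_link {a b w w' : ι → F} {Z : Submodule F (ι → F)}
    (hZ : Z ≤ Submodule.span F {a, b, w, w'}) (hZn : NDeg B Z) (hd : 10 ≤ Fintype.card ι + finrank F Z) :
    ∃ u, Q u = c ∧ B u a = 0 ∧ B u b = 0 ∧ B w u = 0 ∧ B u w' = 0 := by
  obtain ⟨P, hP, hPn, hdim⟩ := exists_ndeg_perp C hZ hZn
  have h4 := finrank_span_four a b w w'
  obtain ⟨u, hu, hQu⟩ := exists_value_ndeg C hPn (by omega) hc
  have := mem_orth_span.1 (hP hu)
  exact ⟨u, hQu, by rw [C.symm]; exact this a (by simp), by rw [C.symm]; exact this b (by simp),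
    this w (by simp), by rw [C.symm]; exact this w' (by simp)⟩

theorem orth_sq {a w : ι → F} (h : B a w = 0) : B a w ^ 2 ≠ (2 * c) ^ 2 := by
  rw [h, zero_pow two_ne_zero]
  exact (pow_ne_zero 2 (mul_ne_zero h2 hc)).symm

/-- Two witnesses of the same points are joined by a short chain of perpendicular witnesses. -/
theorem exists_chain (h7 : 7 ≤ Fintype.card ι) (hq : 8 ≤ Fintype.card ι ∨ 4 ≤ Fintype.card F)
    {R : (ι → F) → (ι → F) → Prop}
    (hR : ∀ u v, Q u = c → Q v = c → B u v = 0 → R u v) {a b w w' : ι → F}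
    (ha : Q a = c) (hw : Q w = c) (hw' : Q w' = c) (hwa : B w a = 0) (hwb : B w b = 0)
    (hwa' : B w' a = 0) (htrans : ∀ u v z, Q v = c → B v a = 0 → B v b = 0 → R u v → R v z → R u z) :
    R w w' := by
  have hpair : B a w = 0 := by rw [C.symm]; exact hwa
  by_cases h8 : 8 ≤ Fintype.card ι
  · obtain ⟨hn, hd⟩ := ndeg_two C h2 hc ha hw (orth_sq C h2 hc hpair)
    obtain ⟨u, hu, hua, hub, hwu, huw⟩ := exists_link C h2 hc (a := a) (b := b) (w := w) (w' := w')
      (Submodule.span_mono (by intro p hp; rcases hp with rfl | rfl <;> simp)) hn (by omega)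
    exact htrans w u w' hu hua hub (hR w u hw hu hwu) (hR u w' hu hw' huw)
  · obtain ⟨hn, hd⟩ := ndeg_two C h2 hc ha hw (orth_sq C h2 hc hpair)
    obtain ⟨P, hP, hPn, hdim⟩ := exists_ndeg_perp C (S := Submodule.span F {a, b, w})
      (Submodule.span_mono (by intro p hp; rcases hp with rfl | rfl <;> simp)) hn
    have h3 := finrank_span_three a b w
    obtain ⟨u, hu, hQu, huw⟩ :=
      exists_value_avoid C h2 (hq.resolve_left h8) hPn (by omega) (B.flip w') hc
    change B u w' ^ 2 ≠ (2 * c) ^ 2 at huw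
    have hu' := mem_orth_span.1 (hP hu)
    have hua : B u a = 0 := by rw [C.symm]; exact hu' a (by simp)
    have hub : B u b = 0 := by rw [C.symm]; exact hu' b (by simp)
    obtain ⟨hn3, hd3⟩ := ndeg_three C h2 hc ha hQu hw' (hu' a (by simp))
      (by rw [C.symm]; exact hwa') huw
    obtain ⟨v, hv, hva, hvb, huv, hvw⟩ := exists_link C h2 hc (a := a) (b := b) (w := u) (w' := w')
      (Submodule.span_mono (by intro p hp; rcases hp with rfl | rfl | rfl <;> simp)) hn3 (by omega)
    exact htrans w u w' hQu hua hub (hR w u hw hQu (hu' w (by simp)))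
      (htrans u v w' hv hva hvb (hR u v hQu hv huv) (hR v w' hv hw' hvw))

end Witness

end Cfsg.Lib.OrthMult
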