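import Cfsg.Agent.Lib.OrthMult.Transport
import Cfsg.Agent.Lib.OrthMult.Witness
import Cfsg.Agent.Lib.Chev.StStem

/-!
# Stem extensions of `Ω` and the stabiliser of a non-singular vector

In odd characteristic the kernel of a stem extension of `Ω` lies in the derived preimage of the
stabiliser of a vector of non-zero norm.
-/

set_option autoImplicit false

namespace Cfsg.Lib.OrthMult

open Module
open Cfsg.Lib.Linear.Orth
open scoped Matrix commutatorElement

universe u v

variable {ι : Type} [Fintype ι] [DecidableEq ι] {F : Type u} [Field F]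
  {Q : (ι → F) → F} {B : LinearMap.BilinForm F (ι → F)} {E : Type v} [Group E]
  (σ : E →* ↥(Root Q B ⊤))

/-- The matrix attached to an element of an extension. -/
noncomputable def glOf : E →* GL ι F := (Root Q B ⊤).subtype.comp σ

/-- The preimage of a Siegel group. -/
noncomputable def preim (U : Submodule F (ι → F)) : Subgroup E := (Root Q B U).comap (glOf σ)

/-- The derived preimage of a Siegel group. -/
noncomputable def der (U : Submodule F (ι → F)) : Subgroup E := ⁅preim σ U, preim σ U⁆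

theorem der_le (U : Submodule F (ι → F)) : der σ U ≤ preim σ U :=
  Subgroup.commutator_le.2 fun a ha b hb => by
    rw [commutatorElement_def]
    exact mul_mem (mul_mem (mul_mem ha hb) (inv_mem ha)) (inv_mem hb)

theorem der_mono {U U' : Submodule F (ι → F)} (h : U ≤ U') : der σ U ≤ der σ U' :=
  Subgroup.commutator_mono (Subgroup.comap_mono (root_mono h)) (Subgroup.comap_mono (root_mono h))

theorem glOf_mem (C : Space Q B) (e : E) : glOf σ e ∈ isometryGroup F Q :=
  root_le_iso C ⊤ (σ e).2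

theorem exists_der (hs : Function.Surjective σ) {U : Submodule F (ι → F)}
    (hp : ⁅Root Q B U, Root Q B U⁆ = Root Q B U) {g : GL ι F} (hg : g ∈ Root Q B U) :
    ∃ d ∈ der σ U, glOf σ d = g := by
  have hrange : Root Q B U ≤ (glOf σ).range := fun x hx => by
    obtain ⟨e, he⟩ := hs ⟨x, root_mono le_top hx⟩
    exact ⟨e, congrArg Subtype.val he⟩
  have : (der σ U).map (glOf σ) = Root Q B U := by
    rw [der, preim, Subgroup.map_commutator, Subgroup.map_comap_eq_self hrange, hp]
  rw [← this] at hg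
  exact hg

theorem mem_ker {e : E} (h : glOf σ e = 1) : e ∈ σ.ker := Subtype.ext h

theorem conj_der (C : Space Q B) (e : E) {U U' : Submodule F (ι → F)}
    (hU : ∀ u ∈ U, (glOf σ e).val *ᵥ u ∈ U') {d : E} (hd : d ∈ der σ U) :
    e * d * e⁻¹ ∈ der σ U' := by
  have hle : (preim σ U).map (MulAut.conj e).toMonoidHom ≤ preim σ U' := by
    rintro _ ⟨k, hk, rfl⟩
    show glOf σ (e * k * e⁻¹) ∈ Root Q B U'
    rw [map_mul, map_mul, map_inv]
    exact root_conj_map C (glOf_mem σ C e) hU hk
  have := Subgroup.mem_map_of_mem (MulAut.conj e).toMonoidHom hd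
  rw [der, Subgroup.map_commutator] at this
  exact Subgroup.commutator_mono hle hle this

/-- The derived preimage mapped onto the Siegel group. -/
noncomputable def derHom (U : Submodule F (ι → F)) : der σ U →* ↥(Root Q B U) :=
  ((glOf σ).comp (der σ U).subtype).codRestrict _ fun d => der_le σ U d.2

theorem derHom_stem (hs : Function.Surjective σ) (hc : σ.ker ≤ Subgroup.center E)
    {U : Submodule F (ι → F)} (hp : ⁅Root Q B U, Root Q B U⁆ = Root Q B U) :
    Cfsg.IsStemExtension (derHom σ U) := by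
  have hρs : Function.Surjective (derHom σ U) := fun g => by
    obtain ⟨d, hd, hdg⟩ := exists_der σ hs hp g.2
    exact ⟨⟨d, hd⟩, Subtype.ext hdg⟩
  have hρc : (derHom σ U).ker ≤ Subgroup.center (der σ U) := fun d hd => Subgroup.mem_center_iff.2
    fun x => Subtype.ext (Subgroup.mem_center_iff.1 (hc (mem_ker σ (congrArg Subtype.val hd))) x.1)
  have hDp : commutator (der σ U) = ⊤ := by
    refine Subgroup.map_injective (der σ U).subtype_injective ?_
    rw [← MonoidHom.range_eq_map, Subgroup.range_subtype, commutator_def, Subgroup.map_commutator,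
      ← MonoidHom.range_eq_map, Subgroup.range_subtype]
    refine le_antisymm (Subgroup.commutator_mono (der_le σ U) (der_le σ U)) ?_
    rw [der, Subgroup.commutator_le]
    intro a ha b hb
    obtain ⟨a', ha', ea⟩ := exists_der σ hs hp ha
    obtain ⟨b', hb', eb⟩ := exists_der σ hs hp hb
    have hca : a'⁻¹ * a ∈ Subgroup.center E :=
      hc (mem_ker σ (by rw [map_mul, map_inv, ea, inv_mul_cancel]))
    have hcb : b'⁻¹ * b ∈ Subgroup.center E :=
      hc (mem_ker σ (by rw [map_mul, map_inv, eb, inv_mul_cancel]))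
    have hcomm := Cfsg.Lib.Chev.comm_mul_central (a := a') (b := b') hca hcb
    rw [mul_inv_cancel_left, mul_inv_cancel_left] at hcomm
    rw [hcomm]
    exact Subgroup.commutator_mem_commutator ha' hb'
  exact ⟨hρs, hρc, hDp ▸ le_top⟩

variable [Fintype F]

/-- The perpendicular of a vector. -/
abbrev perp1 (B : LinearMap.BilinForm F (ι → F)) (a : ι → F) : Submodule F (ι → F) :=
  orth B (Submodule.span F {a})

/-- The kernel of a stem extension lies in the derived preimage of a vector stabiliser. -/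
theorem ker_le_der (C : Space Q B) (h2 : (2 : F) ≠ 0) (h7 : 7 ≤ Fintype.card ι)
    (hq : 9 ≤ Fintype.card ι ∨ 4 ≤ Fintype.card F) (hs : Function.Surjective σ)
    (hc : σ.ker ≤ Subgroup.center E) (hE : commutator E = ⊤) {x₀ : ι → F} {c : F} (hc0 : c ≠ 0)
    (hx₀ : Q x₀ = c) : σ.ker ≤ der σ (perp1 B x₀) := by
  let X := {v : ι → F // Q v = c}
  letI : MulAction E X :=
    { smul := fun e v => ⟨(glOf σ e).val *ᵥ v.1, by rw [mem_iso.1 (glOf_mem σ C e), v.2]⟩
      one_smul := fun v => Subtype.ext (by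
        show (glOf σ 1).val *ᵥ v.1 = v.1
        rw [map_one, Units.val_one, Matrix.one_mulVec])
      mul_smul := fun e e' v => Subtype.ext (by
        show (glOf σ (e * e')).val *ᵥ v.1 = (glOf σ e).val *ᵥ ((glOf σ e').val *ᵥ v.1)
        rw [map_mul, mul_act]) }
  have hne : ∀ a : X, a.1 ≠ 0 := fun a h => hc0 (by rw [← a.2, h, C.zero])
  have hN1 : ∀ a : X, NDeg B (Submodule.span F {a.1}) := fun a => ndeg_one C h2 hc0 a.2
  have hd1 : ∀ a : X, finrank F (orth B (Submodule.span F {a.1})) + 1 = Fintype.card ι := fun a => by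
    rw [← finrank_one C h2 hc0 a.2]
    exact orth_finrank C (hN1 a)
  have hN2 : ∀ a w : X, B a.1 w.1 = 0 → NDeg B (Submodule.span F {a.1, w.1}) ∧
      finrank F (orth B (Submodule.span F {a.1, w.1})) + 2 = Fintype.card ι := fun a w h => by
    obtain ⟨hn, hd⟩ := ndeg_two C h2 hc0 a.2 w.2 (orth_sq C h2 hc0 h)
    exact ⟨hn, hd ▸ orth_finrank C hn⟩
  have hperf : ∀ A : Submodule F (ι → F), NDeg B A → Fintype.card ι ≤ finrank F (orth B A) + 2 →
      ⁅Root Q B (orth B A), Root Q B (orth B A)⁆ = Root Q B (orth B A) := fun A hA h =>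
    root_perfect C (split_orth C hA) (hq.imp (fun h9 => by omega) fun h4 => ⟨by omega, h4⟩)
  have hfix : ∀ (A : Submodule F (ι → F)) (d : E), d ∈ der σ (orth B A) → ∀ a ∈ A,
      (glOf σ d).val *ᵥ a = a := fun A d hd a ha => root_fix C (der_le σ _ hd) ha
  have hconj : ∀ (e : E) (a : X) (d : E), d ∈ der σ (perp1 B a.1) →
      e * d * e⁻¹ ∈ der σ (perp1 B (e • a).1) := fun e a d hd => by
    refine conj_der σ C e (fun u hu => ?_) hd
    refine mem_orth_span.2 fun y hy => ?_
    rw [Set.mem_singleton_iff.1 hy]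
    show B ((glOf σ e).val *ᵥ a.1) ((glOf σ e).val *ᵥ u) = 0
    rw [C.B_act (glOf_mem σ C e)]
    exact mem_orth_span.1 hu _ rfl
  have hker : ∀ (a w : X) (k : E), k ∈ σ.ker → k ∈ der σ (perp1 B w.1) → k ∈ der σ (perp1 B a.1) :=
    fun a w k hk hkw => by
    obtain ⟨h, hh, hha⟩ := trans_top C (by omega) (hne w) (hne a) (w.2.trans a.2.symm)
    obtain ⟨e, he⟩ := hs ⟨h, hh⟩
    have h3 := hconj e w k hkw
    rw [show e • w = a from Subtype.ext (by
      show (glOf σ e).val *ᵥ w.1 = a.1
      rw [show glOf σ e = h from congrArg Subtype.val he, hha])] at h3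
    rwa [Subgroup.mem_center_iff.1 (hc hk) e, mul_inv_cancel_right] at h3
  have hmem : ∀ w a : X, B w.1 a.1 = 0 → ∀ g ∈ der σ (perp1 B w.1), g • a = a →
      g ∈ der σ (perp1 B a.1) := fun w a hwa g hg hga => by
    obtain ⟨hn, hd⟩ := hN2 a w (by rw [C.symm]; exact hwa)
    have hgR : glOf σ g ∈ Root Q B (orth B (Submodule.span F {a.1, w.1})) := by
      refine mem_root_orth C h2 hn (by omega) (σ g).2 fun y hy => ?_
      obtain ⟨s, t, rfl⟩ := Submodule.mem_span_pair.1 hy
      rw [Matrix.mulVec_add, Matrix.mulVec_smul, Matrix.mulVec_smul,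
        show (glOf σ g).val *ᵥ a.1 = a.1 from congrArg Subtype.val hga,
        hfix _ g hg w.1 (Submodule.mem_span_singleton_self w.1)]
    obtain ⟨y, hy, hyg⟩ := exists_der σ hs (hperf _ hn (by omega)) hgR
    have hyw : y ∈ der σ (perp1 B w.1) :=
      der_mono σ (orth_anti (Submodule.span_mono (by simp))) hy
    have hya : y ∈ der σ (perp1 B a.1) :=
      der_mono σ (orth_anti (Submodule.span_mono (by simp))) hy
    have hk : y⁻¹ * g ∈ σ.ker := mem_ker σ (by rw [map_mul, map_inv, hyg, inv_mul_cancel])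
    have := mul_mem hya (hker a w _ hk (mul_mem (inv_mem hyw) hg))
    rwa [mul_inv_cancel_left] at this
  have htrans : ∀ w a b : X, B w.1 a.1 = 0 → B w.1 b.1 = 0 →
      ∃ g ∈ der σ (perp1 B w.1), g • a = b := fun w a b hwa hwb => by
    obtain ⟨h, hh, hha⟩ := trans C (split_orth C (hN1 w)).ndU (by have := hd1 w; omega)
      (mem_orth_span.2 (by simpa using hwa)) (mem_orth_span.2 (by simpa using hwb)) (hne a) (hne b)
      (a.2.trans b.2.symm)
    obtain ⟨d, hd, hdh⟩ := exists_der σ hs (hperf _ (hN1 w) (by have := hd1 w; omega)) hh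
    exact ⟨d, hd, Subtype.ext (by show (glOf σ d).val *ᵥ a.1 = b.1; rw [hdh, hha])⟩
  have hS : Sys (fun a : X => der σ (perp1 B a.1)) (fun w : X => der σ (perp1 B w.1))
      (fun w a : X => B w.1 a.1 = 0) (fun e w => e • w) :=
    { fix := fun a d hd => Subtype.ext (hfix _ d hd a.1 (Submodule.mem_span_singleton_self a.1))
      conjD := hconj
      conjW := hconj
      perpW := fun e w a h => by
        show B ((glOf σ e).val *ᵥ w.1) ((glOf σ e).val *ᵥ a.1) = 0
        rw [C.B_act (glOf_mem σ C e), h]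
      mem := fun w a g h1 h2 h3 => hmem w a h1 g h2 h3
      trans := htrans
      indep := fun w w' a b hwa hwb hwa' hwb' => by
        let R : (ι → F) → (ι → F) → Prop := fun u v => B u a.1 = 0 → B u b.1 = 0 →
          B v a.1 = 0 → B v b.1 = 0 → ∀ g ∈ der σ (perp1 B u), ∀ g' ∈ der σ (perp1 B v),
          g • a = b → g' • a = b → g'⁻¹ * g ∈ der σ (perp1 B a.1)
        have hRuv : ∀ u v, Q u = c → Q v = c → B u v = 0 → R u v := by
          intro u v hu hv huv hua hub hva hvb g hg g' hg' ega egb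
          obtain ⟨hn, hd⟩ := hN2 ⟨u, hu⟩ ⟨v, hv⟩ huv
          have hmemP : ∀ y : X, B u y.1 = 0 → B v y.1 = 0 → y.1 ∈ orth B (Submodule.span F {u, v}) :=
            fun y h h' => mem_orth_span.2 (by rintro z (rfl | rfl) <;> assumption)
          obtain ⟨h, hh, hha⟩ := trans C (split_orth C hn).ndU (by omega) (hmemP a hua hva)
            (hmemP b hub hvb) (hne a) (hne b) (a.2.trans b.2.symm)
          obtain ⟨d, hd', hdh⟩ := exists_der σ hs (hperf _ hn (by omega)) hh
          have hda : d • a = b := Subtype.ext (by show (glOf σ d).val *ᵥ a.1 = b.1; rw [hdh, hha])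
          have k1 : d⁻¹ * g ∈ der σ (perp1 B a.1) := hmem ⟨u, hu⟩ a hua _
            (mul_mem (inv_mem (der_mono σ (orth_anti (Submodule.span_mono (by simp))) hd')) hg)
            (by rw [mul_smul, ega, inv_smul_eq_iff, hda])
          have k2 : d⁻¹ * g' ∈ der σ (perp1 B a.1) := hmem ⟨v, hv⟩ a hva _
            (mul_mem (inv_mem (der_mono σ (orth_anti (Submodule.span_mono (by simp))) hd')) hg')
            (by rw [mul_smul, egb, inv_smul_eq_iff, hda])
          have := mul_mem (inv_mem k2) k1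
          convert this using 1
          group
        have hRtr : ∀ u v z, Q v = c → B v a.1 = 0 → B v b.1 = 0 → R u v → R v z → R u z := by
          intro u v z hv hva hvb h1 h2' hua hub hza hzb g hg g' hg' ega egb
          obtain ⟨m, hm, hma⟩ := htrans ⟨v, hv⟩ a b hva hvb
          have := mul_mem (h2' hva hvb hza hzb m hm g' hg' hma egb)
            (h1 hua hub hva hvb g hg m hm ega hma)
          convert this using 1
          group
        have hR := exists_chain C h2 hc0 h7 (hq.imp (fun h => by omega) id) hRuv (b := b.1) a.2 w.2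
          w'.2 hwa hwb hwa' hRtr
        obtain ⟨g, hg, hga⟩ := htrans w a b hwa hwb
        obtain ⟨g', hg', hga'⟩ := htrans w' a b hwa' hwb'
        exact ⟨g, hg, g', hg', hga, hga', hR hwa hwb hwa' hwb' g hg g' hg' hga hga'⟩
      triple := fun a b x => by
        obtain ⟨w, hw, h1, h3, h4⟩ := exists_common C h2 hc0 h7 a.2 b.1 x.1
        exact ⟨⟨w, hw⟩, h1, h3, h4⟩ }
  intro k hk
  refine hS.central_mem (⟨x₀, hx₀⟩ : X) hE (fun e he => ?_) (hc hk) (Subtype.ext ?_)
  · have hd : finrank F (orth B (Submodule.span F {x₀})) + 1 = Fintype.card ι := hd1 ⟨x₀, hx₀⟩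
    have hgR : glOf σ e ∈ Root Q B (perp1 B x₀) := by
      refine mem_root_orth C h2 (hN1 ⟨x₀, hx₀⟩) (by change 5 ≤ finrank F (orth B (Submodule.span F {x₀})); omega) (σ e).2 fun y hy => ?_
      obtain ⟨t, rfl⟩ := Submodule.mem_span_singleton.1 hy
      rw [Matrix.mulVec_smul, show (glOf σ e).val *ᵥ x₀ = x₀ from congrArg Subtype.val he]
    obtain ⟨y, hy, hye⟩ := exists_der σ hs (hperf _ (hN1 ⟨x₀, hx₀⟩) (by change Fintype.card ι ≤ finrank F (orth B (Submodule.span F {x₀})) + 2; omega)) hgR
    refine ⟨e * y⁻¹, hc (mem_ker σ (by rw [map_mul, map_inv, hye, mul_inv_cancel])), ?_⟩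
    rwa [mul_inv_rev, inv_inv, inv_mul_cancel_right]
  · show (glOf σ k).val *ᵥ x₀ = x₀
    rw [show glOf σ k = 1 from congrArg Subtype.val hk, Units.val_one, Matrix.one_mulVec]

/-- The kernel is bounded by the kernels of stem extensions of a vector stabiliser. -/
theorem card_ker_le_of_stab (C : Space Q B) (h2 : (2 : F) ≠ 0) (h7 : 7 ≤ Fintype.card ι)
    (hq : 9 ≤ Fintype.card ι ∨ 4 ≤ Fintype.card F) [Finite E] (hs : Cfsg.IsStemExtension σ)
    (hperf : commutator ↥(Root Q B ⊤) = ⊤) {x₀ : ι → F} {c : F} (hc0 : c ≠ 0) (hx₀ : Q x₀ = c)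
    {N : ℕ} (hN : ∀ (Γ : Type v) [Group Γ] [Finite Γ] (ρ : Γ →* ↥(Root Q B (perp1 B x₀))),
      Cfsg.IsStemExtension ρ → Nat.card ρ.ker ≤ N) : Nat.card σ.ker ≤ N := by
  have hle := ker_le_der σ C h2 h7 hq hs.1 hs.2.1 (Cfsg.Lib.Chev.stem_perfect hs hperf) hc0 hx₀
  have hd : finrank F (perp1 B x₀) + 1 = Fintype.card ι := by
    rw [← finrank_one C h2 hc0 hx₀]
    exact orth_finrank C (ndeg_one C h2 hc0 hx₀)
  have hp := root_perfect C (split_orth C (ndeg_one C h2 hc0 hx₀))
    (hq.imp (fun h9 => by change 7 ≤ finrank F (perp1 B x₀); omega)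
      fun h4 => ⟨by change 5 ≤ finrank F (perp1 B x₀); omega, h4⟩)
  refine le_trans (le_of_eq ?_) (hN (der σ (perp1 B x₀)) (derHom σ _) (derHom_stem σ hs.1 hs.2.1 hp))
  refine Nat.card_congr
    { toFun := fun k => ⟨⟨k.1, hle k.2⟩, Subtype.ext (congrArg Subtype.val k.2 :)⟩
      invFun := fun k => ⟨k.1.1, mem_ker σ (congrArg Subtype.val k.2)⟩
      left_inv := fun k => rfl
      right_inv := fun k => rfl }

end Cfsg.Lib.OrthMult
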